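import Groth.Agent.Surf.K549.StarC
import Groth.Agent.Surf.K993.SingFin
import Groth.Agent.CurvesB.OmegaStalkDict
import Groth.Agent.Surf.K464.PtCurve
import Groth.Agent.S19559

/-!
# (STAR) for the relative canonical class (helper549)
-/

set_option autoImplicit false
set_option linter.style.haveILetI false
universe u

open CategoryTheory CategoryTheory.Limits AlgebraicGeometry TopologicalSpace Opposite
open Groth.Agent Groth.Agent.CycB Groth.Agent.CycB.ModStalk Groth.Agent.CycB.C1Basic Cyc
open K464.Base K464.Curves Groth.Agent.Grpsch.PicGrp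

namespace K549.StarW

open StarLoc CurvesB.OmegaDer CurvesB.OmegaStalkDict

section der

variable {k : Type u} [Field k] {X C : Scheme.{u}} (πX : X ⟶ Spec (CommRingCat.of k))
  [QuasiCompact (pullback.diagonal πX)] (f : X ⟶ C) {E : X.Modules} (w : Omega.sheaf πX ⟶ E)

/-- the relative derivation attached to `w : Ω ⟶ E` killing the differentials of functions from the base -/
noncomputable def relDer (hw : ∀ (V : C.Opens) (s : Γ(C, V)), w.app (f ⁻¹ᵁ V) (d πX (f ⁻¹ᵁ V) (f.app V s)) = 0) :
    RelDer f E where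
  th x := (StalkExact.stalkLin w x).toAddMonoidHom.comp (dSt πX x)
  leib x a b := by
    change StalkExact.stalkLin w x (dSt πX x (a * b)) = a • StalkExact.stalkLin w x (dSt πX x b) +
      b • StalkExact.stalkLin w x (dSt πX x a)
    rw [dSt_mul, map_add, map_smul, map_smul]
  base x s := by
    change StalkExact.stalkLin w x (dSt πX x (f.stalkMap x s)) = 0
    obtain ⟨V, hV, s, rfl⟩ := TopCat.Presheaf.exists_germ_eq C.presheaf s
    have h1 : f.stalkMap x (C.presheaf.germ V (f x) hV s) = X.presheaf.germ (f ⁻¹ᵁ V) x hV (f.app V s) :=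
      Scheme.Hom.germ_stalkMap_apply f V x hV s
    rw [h1, dSt_germ, StalkExact.stalkLin_germ, hw, map_zero]
  spec {x ξ} h a := by
    change E.presheaf.stalkSpecializes h (StalkExact.stalkLin w x (dSt πX x a)) =
      StalkExact.stalkLin w ξ (dSt πX ξ (X.presheaf.stalkSpecializes h a))
    rw [← dSt_specializes, DegIntegral.stalkLin_stalkSpecializes]

theorem relDer_span (hw : ∀ (V : C.Opens) (s : Γ(C, V)), w.app (f ⁻¹ᵁ V) (d πX (f ⁻¹ᵁ V) (f.app V s)) = 0) (x : X)
    (hsurj : Function.Surjective (StalkExact.stalkLin w x)) :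
    Submodule.span (X.presheaf.stalk x) (Set.range ((relDer πX f w hw).th x)) = ⊤ := by
  have h1 : Submodule.span (X.presheaf.stalk x) (Set.range (dSt πX x)) = ⊤ := by
    letI := stAlg πX x
    letI := stMod πX (Omega.sheaf πX) x
    haveI := stTower πX (Omega.sheaf πX) x
    rw [eq_top_iff]
    rintro m -
    obtain ⟨v, rfl⟩ := (bijective_stDer πX x).2 m
    have hv : v ∈ Submodule.span (X.presheaf.stalk x) (Set.range (KaehlerDifferential.D k (X.presheaf.stalk x))) := by
      rw [KaehlerDifferential.span_range_derivation]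
      trivial
    induction hv using Submodule.span_induction with
    | mem v hv =>
      obtain ⟨a, rfl⟩ := hv
      rw [Derivation.liftKaehlerDifferential_comp_D]
      exact Submodule.subset_span ⟨a, rfl⟩
    | zero => rw [map_zero]; exact Submodule.zero_mem _
    | add a b _ _ ha hb => rw [map_add]; exact Submodule.add_mem _ ha hb
    | smul a b _ hb => rw [map_smul]; exact Submodule.smul_mem _ _ hb
  have h2 : Set.range ((relDer πX f w hw).th x) = StalkExact.stalkLin w x '' Set.range (dSt πX x) := by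
    rw [← Set.range_comp]
    rfl
  rw [h2, ← Submodule.map_span, h1, Submodule.map_top, LinearMap.range_eq_top]
  exact hsurj

end der

/-- a point over the generic point of the base is smooth of relative dimension one -/
theorem sm_of_generic {X C : Scheme.{u}} (f : X ⟶ C) (hf : Curv2.IsNodalFamily f) [LocallyOfFinitePresentation f]
    [IsProper f] [IsIntegral C] (hC : topologicalKrullDim C = 1) {q₀ : C}
    (hsm : Smooth (f.fiberToSpecResidueField q₀)) {ξ : X} (hξ : f ξ = genericPoint C) :
    CurvesB.NodalPoint.Sm f ξ := by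
  have h1 : ξ ∈ f.smoothLocus := by
    by_contra hcon
    have h2 := K993.SingFin.isClosed_apply f hf hC.le hsm hcon
    rw [hξ] at h2
    exact K464.PtCurve.ne_generic hC h2 rfl
  refine S19559.sm_of_smooth f (fun s => (hf.2.2 s).1) ξ f.smoothLocus h1 ?_
  exact VarietyA.SmoothLocusSch.smooth_smoothLocus_ι f

/-- **(STAR)** `D² + m (ω·D) ≥ 0` for a horizontal curve `D`, in terms of `w : Ω ⟶ E` -/
theorem star (k : Type u) [Field k] {X C : Scheme.{u}} [X.Over (Spec (CommRingCat.of k))]
    [IsProper (X ↘ Spec (CommRingCat.of k))] [IsIntegral X] [IsIntegral C]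
    [Smooth (X ↘ Spec (CommRingCat.of k))] (f : X ⟶ C) [IsProper f] (hdimC : topologicalKrullDim C = 1)
    (hss : Curv2.IsNodalFamily f) {q₀ : C} (hsm : Smooth (f.fiberToSpecResidueField q₀)) {E : X.Modules}
    (hE : PicF.IsInvertible E) (w : Omega.sheaf (X ↘ Spec (CommRingCat.of k)) ⟶ E)
    (hw : ∀ (V : C.Opens) (s : Γ(C, V)),
      w.app (f ⁻¹ᵁ V) (d (X ↘ Spec (CommRingCat.of k)) (f ⁻¹ᵁ V) (f.app V s)) = 0)
    (hsurj : ∀ x : X, CurvesB.NodalPoint.Sm f x → Function.Surjective (StalkExact.stalkLin w x))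
    {D : X.IdealSheafData} (hD : IsCurve D) (hDe : BlowUp.IsEffCartierIdeal D) (hhor : f (gp hD) = genericPoint C) :
    ∃ m : ℕ, 1 ≤ m ∧ 0 ≤ dot k X (ic D hDe) (ic D hDe) + m * degOn k X D (mk E hE) := by
  have := hss.2.1
  have hsmξ := sm_of_generic f hss hdimC hsm hhor
  have hK : IsField (C.presheaf.stalk (f (gp hD))) := by
    rw [hhor]
    exact Field.toIsField C.functionField
  obtain ⟨m, hm, h⟩ := Star.star_aux k X (fun x => S1535.result k X x) f hss hE
    (relDer (X ↘ Spec (CommRingCat.of k)) f w hw) hD hDe hK hsmξ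
    (relDer_span (X ↘ Spec (CommRingCat.of k)) f w hw (gp hD) (hsurj _ hsmξ))
  refine ⟨m, hm, ?_⟩
  rw [dot_ic_eq]
  linarith

end K549.StarW
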