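import Groth.Agent.Surf.K418.Nef
import Groth.Agent.Surf.K549.StarD
import Groth.Agent.Surf.K993.VertCan
import Groth.Agent.Surf.K83.KerPush
import Groth.Agent.Surf.K83.KerExact
import Groth.Agent.CycB.DegReduce2
import Groth.Agent.CurvesC.RegNormal
import Groth.Agent.Vancyc.H878.OmegaRank
import Groth.Agent.Picfga.CurveRelDim

/-!
# Nefness of the relative canonical class in characteristic `p`: assembly (helper549)
-/

set_option autoImplicit false
universe u

open CategoryTheory CategoryTheory.Limits AlgebraicGeometry TopologicalSpace Opposite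
open Groth.Agent Groth.Agent.Grpsch.PicGrp K464.Base K464.Curves

namespace K549.StarE

section

variable (k : Type u) [Field k] [IsAlgClosed k] (p : ℕ) [Fact p.Prime] [CharP k p] {X C : Scheme.{u}}
  [X.Over (Spec (CommRingCat.of k))] [C.Over (Spec (CommRingCat.of k))] [IsProper (X ↘ Spec (CommRingCat.of k))]
  [IsProper (C ↘ Spec (CommRingCat.of k))] [IsIntegral X] [IsIntegral C] [Smooth (X ↘ Spec (CommRingCat.of k))]
  [Smooth (C ↘ Spec (CommRingCat.of k))] [FrobSch.IsCharP X p] [FrobSch.IsCharP C p]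
  (hdim : topologicalKrullDim X = 2) (hdimC : topologicalKrullDim C = 1) (f : X ⟶ C)
  (hf : f ≫ (C ↘ Spec (CommRingCat.of k)) = X ↘ Spec (CommRingCat.of k)) [Surjective f]
  (hconn : IsIso (ClSub.unitToPush f)) (hss : Curv2.IsNodalFamily f)
  (q₀ : C) (hsm : Smooth (f.fiberToSpecResidueField q₀)) {E : X.Modules} (hE : PicF.IsInvertible E)
  (w : Omega.sheaf (X ↘ (Spec (CommRingCat.of k))) ⟶ E)
  (hw : ∀ (V : C.Opens) (s : Γ(C, V)), K83.KerFrob.δ (X ↘ (Spec (CommRingCat.of k))) w (f ⁻¹ᵁ V) (f.app V s) = 0)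
  (hker : ∀ (x : X) (ω : (Omega.sheaf (X ↘ (Spec (CommRingCat.of k)))).presheaf.stalk x),
    CycB.StalkExact.stalkLin w x ω = 0 →
    ω ∈ Submodule.span (X.presheaf.stalk x) (Set.range fun s : C.presheaf.stalk (f x) =>
      CurvesB.OmegaStalkDict.dSt (X ↘ (Spec (CommRingCat.of k))) x (f.stalkMap x s)))
  (hsurj : ∀ x : X, CurvesB.NodalPoint.Sm f x → Function.Surjective (CycB.StalkExact.stalkLin w x))

include hdim hdimC hf hconn hss hsm hE hw hker in
/-- the kernel of Frobenius on `R¹f_*O` embeds in `f_*E` -/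
theorem ker_input :
    ∃ (Q : C.Modules)
      (m : Q ⟶ (Scheme.Modules.pullback (FrobSch.frob C p)).obj ((Coh.Rpush f 1).obj (Coh.structureModule X)))
      (r : (Scheme.Modules.pullback (FrobSch.frob C p)).obj ((Coh.Rpush f 1).obj (Coh.structureModule X)) ⟶
        (Coh.Rpush f 1).obj (Coh.structureModule X))
      (n : Q ⟶ (Scheme.Modules.pushforward f).obj E) (h : m ≫ r = 0),
      Mono m ∧ Mono n ∧ (ShortComplex.mk m r h).Exact := by
  have hp : IsProper f := K464.FibCurve.isProper k f hf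
  have hfl := K418.FrobMain.flat_frob k p C
  have hflf := hss.1
  have hfp := hss.2.1
  have hsmU : Smooth ((f.smoothLocus : X.Opens).ι ≫ f) := VarietyA.SmoothLocusSch.smooth_smoothLocus_ι f
  have hne : ((f.smoothLocus : X.Opens) : Set X).Nonempty := by
    obtain ⟨x, hx⟩ := f.surjective (genericPoint C)
    exact ⟨x, CurvesB.NodalPoint.mem_smoothLocus_of_sm f x (K549.StarW.sm_of_generic f hss hdimC hsm hx)⟩
  have hmono : Mono (FormalA.ThickSurj.qmap (FrobSch.relFrob f p)) :=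
    K418.FrobTw.mono_relFrob p f f.smoothLocus hne
  have hnorm : Pi1.IsNormalScheme X := by
    intro x
    have := S1535.result k X x
    have h1 := Groth.Agent.CurvesC.RegNormal.isDomain (X.presheaf.stalk x)
    exact ⟨h1, (Groth.Agent.CurvesC.RegNormal.cic (X.presheaf.stalk x)).isIntegrallyClosed⟩
  have hsm2 : SmoothOfRelativeDimension 2 (X ↘ Spec (CommRingCat.of k)) :=
    Picfga.CurveRelDim.smoothOfRelativeDimension_of_topologicalKrullDim_eq k X _ 2 hdim
  have hsm1 : SmoothOfRelativeDimension 1 (C ↘ Spec (CommRingCat.of k)) :=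
    Picfga.CurveRelDim.smoothOfRelativeDimension_of_topologicalKrullDim_eq k C _ 1 hdimC
  have hex := K83.KerExact.exact_seq (X ↘ (Spec (CommRingCat.of k))) w (C ↘ (Spec (CommRingCat.of k))) p f hf
    hnorm (Vancyc.H878.OmegaRank.isFinLocFreeOfRank_omega 1 _) (Vancyc.H878.OmegaRank.isFinLocFreeOfRank_omega 2 _)
    (CycB.DegReduce2.isFinLocFreeOfRank_one hE) hw hker
  exact K83.KerPush.main p f hconn hmono _ _ hex

include hdimC hf hss hsm hw hsurj in
omit [IsAlgClosed k] [Smooth (C ↘ Spec (CommRingCat.of k))] [FrobSch.IsCharP X p] [FrobSch.IsCharP C p] [Fact p.Prime]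
  [CharP k p] [Surjective f] in
/-- (STAR) for all horizontal curves -/
theorem star_input (D : X.IdealSheafData) (hD : IsCurve D) (hDe : BlowUp.IsEffCartierIdeal D)
    (hhor : f (gp hD) = genericPoint C) :
    ∃ m : ℕ, 1 ≤ m ∧ 0 ≤ dot k X (ic D hDe) (ic D hDe) + m * degOn k X D (mk E hE) := by
  have hp : IsProper f := K464.FibCurve.isProper k f hf
  exact K549.StarW.star k f hdimC hss hsm hE w hw hsurj hD hDe hhor

end

section rel

variable (k : Type u) [Field k] [IsAlgClosed k] (p : ℕ) [Fact p.Prime] [CharP k p] {X C : Scheme.{u}}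
  [X.Over (Spec (CommRingCat.of k))] [C.Over (Spec (CommRingCat.of k))] [IsProper (X ↘ Spec (CommRingCat.of k))]
  [IsProper (C ↘ Spec (CommRingCat.of k))] [IsIntegral X] [IsIntegral C] [Smooth (X ↘ Spec (CommRingCat.of k))]
  [Smooth (C ↘ Spec (CommRingCat.of k))]
  (hdim : topologicalKrullDim X = 2) (hdimC : topologicalKrullDim C = 1) (f : X ⟶ C)
  (hf : f ≫ (C ↘ Spec (CommRingCat.of k)) = X ↘ Spec (CommRingCat.of k)) [Surjective f]
  (hconn : IsIso (ClSub.unitToPush f)) (hss : Curv2.IsNodalFamily f)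
  (q₀ : C) (hq₀ : IsClosed ({q₀} : Set C)) (hsm : Smooth (f.fiberToSpecResidueField q₀))
  (g : ℕ) (hg2 : 2 ≤ g) (hg : Curv2.euler k X (ClSub.quotMod (f.fiberι q₀).ker) = 1 - (g : ℤ))
  (hmin : ∀ E : X.IdealSheafData, IsIntegral E.subscheme → topologicalKrullDim (E.support : Set X) = 1 →
    (∃ c : C, ∀ x : X, x ∈ E.support → f.base x = c) → Curv2.euler k X (ClSub.quotMod E) = 1 →
    FGA.intNum k X 2 ![ClSub.idealMod E, ClSub.idealMod E] (Coh.structureModule X) ≠ -1)
  {WX : X.Modules} (hWX : ExtPow.IsExtPow 2 (Omega.sheaf (X ↘ Spec (CommRingCat.of k))) WX)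
  (hW : PicF.IsInvertible WX) {M : X.Modules}
  (hM : ClSub.IsInverseOf M ((Scheme.Modules.pullback f).obj (Omega.sheaf (C ↘ Spec (CommRingCat.of k)))))
  (hMi : PicF.IsInvertible M)
  (w : Omega.sheaf (X ↘ (Spec (CommRingCat.of k))) ⟶ CohB1.tensorMod WX M)
  (hw : ∀ (V : C.Opens) (s : Γ(C, V)), K83.KerFrob.δ (X ↘ (Spec (CommRingCat.of k))) w (f ⁻¹ᵁ V) (f.app V s) = 0)
  (hker : ∀ (x : X) (ω : (Omega.sheaf (X ↘ (Spec (CommRingCat.of k)))).presheaf.stalk x),
    CycB.StalkExact.stalkLin w x ω = 0 →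
    ω ∈ Submodule.span (X.presheaf.stalk x) (Set.range fun s : C.presheaf.stalk (f x) =>
      CurvesB.OmegaStalkDict.dSt (X ↘ (Spec (CommRingCat.of k))) x (f.stalkMap x s)))
  (hsurj : ∀ x : X, CurvesB.NodalPoint.Sm f x → Function.Surjective (CycB.StalkExact.stalkLin w x))

include p hdim hdimC hf hconn hss hq₀ hsm hg2 hg hmin hWX hM hw hker hsurj in
/-- nefness of `ω_{X/C}` -/
theorem nef (D : X.IdealSheafData) (hD : IsCurve D) : 0 ≤ degOn k X D (mk WX hW * mk M hMi) := by
  have h1 : FrobSch.IsCharP X p := K418.FrobMain.isCharP k p X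
  have h2 : FrobSch.IsCharP C p := K418.FrobMain.isCharP k p C
  have hE : PicF.IsInvertible (CohB1.tensorMod WX M) := Fdesc.LocGen.isInvertible_tensorMod hW hMi
  refine K418.Nef.nef k p hdim hdimC f hf hconn hss q₀ hq₀ hsm g hg2 hg hWX hW hM hMi
    (ker_input k p hdim hdimC f hf hconn hss q₀ hsm hE w hw hker) (fun D hD hDe hhor => ?_)
    (fun D hD hD1 hDv LD hLD =>
      (K993.VertCan.main k f hf hdim hdimC hconn hq₀ hg2 hg hmin hWX hM hD hD1 hDv hLD).1) D hD
  obtain ⟨m, -, h⟩ := star_input k hdimC f hf hss q₀ hsm hE w hw hsurj D hD hDe hhor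
  refine ⟨m, ?_⟩
  rwa [mk_mul_mk hW hMi]

end rel

end K549.StarE
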