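import Groth.Agent.Surf.K83.WedgeKer
import Groth.Agent.Surf.K549.StarE
import Groth.Agent.S2821
import Groth.Agent.S9370
import Groth.Agent.S5005
import Groth.Agent.Fga.DimCut
import Groth.Agent.Surf.K993.SingFin
import Groth.Agent.Surf.K457.Form
import Groth.Agent.DeRhamSh.K853.OmegaBridge

/-!
# Wedge with `df`: surjectivity at smooth points and the package (helper549)
-/

set_option autoImplicit false
universe u
open CategoryTheory CategoryTheory.Limits AlgebraicGeometry Opposite TopologicalSpace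
open scoped TensorProduct

namespace K549.WedgeFin

open Groth.Agent Groth.Agent.Fdesc Groth.Agent.Ega2.Tens CurvesB.OmegaDer CurvesB.OmegaStalkDict
open KaehlerDifferential

/-- the partner of a generator under a perfect pairing `M ⊗ N ≅ O` is a generator -/
theorem isGen_of_pair {X : Scheme.{u}} {M N : X.Modules} (a : CohB1.tensorMod M N ≅ Coh.structureModule X)
    {U : X.Opens} {m : Γ(M, U)} {n : Γ(N, U)} (hn : LocGen.IsGen n) (h : a.hom.app U (tmul m n) = sm 1) :
    LocGen.IsGen m := by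
  intro V hV
  have h1 : a.hom.app V (tmul (LocGen.res M hV m) (LocGen.res N hV n)) = sm 1 := by
    have h2 := congrArg (LocGen.res (Coh.structureModule X) hV) h
    rw [← LocGen.app_res] at h2
    have h3 : LocGen.res (CohB1.tensorMod M N) hV (tmul m n) = tmul (LocGen.res M hV m) (LocGen.res N hV n) :=
      tmul_res (homOfLE hV) _ _
    rw [h3] at h2
    refine h2.trans ?_
    exact (sm_res (homOfLE hV) 1).trans (congrArg sm (map_one _))
  have hb := Groth.Agent.Ega2.TensGen.tmul_gen_bijective (F := M) (hn.res hV)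
  have key : ∀ c : Γ(X, V), a.hom.app V (tmul (c • LocGen.res M hV m) (LocGen.res N hV n)) = sm c := by
    intro c
    have h4 : tmul (c • LocGen.res M hV m) (LocGen.res N hV n) =
      c • tmul (LocGen.res M hV m) (LocGen.res N hV n) := smul_tmul _ _ _
    rw [h4, Scheme.Modules.Hom.app_smul, h1, ← sm_eq_smul]
  constructor
  · intro c c' hcc
    have h5 := key c
    rw [show c • LocGen.res M hV m = c' • LocGen.res M hV m from hcc, key c'] at h5
    exact h5.symm
  · intro y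
    refine ⟨a.hom.app V (tmul y (LocGen.res N hV n)), ?_⟩
    apply hb.1
    have h6 : Function.Injective (a.hom.app V) := by
      intro z z' hz
      have h7 := congrArg (a.inv.app V) hz
      have h8 : ∀ z : Γ(CohB1.tensorMod M N, V), a.inv.app V (a.hom.app V z) = z := fun z =>
        congr($(congr($(a.hom_inv_id).app V)) z)
      rwa [h8, h8] at h7
    apply h6
    exact key _

section

variable {k : Type u} [Field k] {X C : Scheme.{u}} (πX : X ⟶ Spec (CommRingCat.of k))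
  [QuasiCompact (pullback.diagonal πX)] (πC : C ⟶ Spec (CommRingCat.of k))
  [QuasiCompact (pullback.diagonal πC)] (f : X ⟶ C) [LocallyOfFinitePresentation f]

open Groth.Agent.Sga67.LocBasis

variable (c : (Scheme.Modules.pullback f).obj (Omega.sheaf πC) ⟶ Omega.sheaf πX)
  (hc : ∀ (U : C.Opens) (s : Γ(C, U)), c.app (f ⁻¹ᵁ U) (LocGen.pullSec f (d πC U s)) =
    d πX (f ⁻¹ᵁ U) (f.app U s))
  {M W : X.Modules} (β : CohB1.tensorMod (Omega.sheaf πX) (Omega.sheaf πX) ⟶ W) (hβ : K698.Wedge.IsWedge β)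
  (a : CohB1.tensorMod M ((Scheme.Modules.pullback f).obj (Omega.sheaf πC)) ≅ Coh.structureModule X)

include hc hβ in
/-- `w` is surjective at the points where `f` is smooth. -/
theorem surjective_of_smooth (hf : f ≫ πC = πX) (hΩC : FlatMod.IsFinLocFreeOfRank 1 (Omega.sheaf πC))
    (hΩ : FlatMod.IsFinLocFreeOfRank 2 (Omega.sheaf πX)) (x : X) (hx : x ∈ f.smoothLocus) :
    Function.Surjective (CycB.StalkExact.stalkLin (K83.WedgeDf.wm c β a) x) := by
  intro z
  obtain ⟨V, hV, t, m, ht, hm⟩ := K83.WedgeDf.exists_frame πC f a hΩC x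
  obtain ⟨U₀, hxU₀, ⟨e₀⟩⟩ := hΩ x
  obtain ⟨b, hb⟩ := nonempty_restrict_iso_iff.1 ⟨e₀⟩
  obtain ⟨U₁, hxU₁, z, rfl⟩ := TopCat.Presheaf.exists_germ_eq (CohB1.tensorMod W M).presheaf z
  let U : X.Opens := U₀ ⊓ U₁ ⊓ f ⁻¹ᵁ V
  have hxU : x ∈ U := ⟨⟨hxU₀, hxU₁⟩, hV⟩
  have hUU₀ : U ≤ U₀ := inf_le_left.trans inf_le_left
  have hUU₁ : U ≤ U₁ := inf_le_left.trans inf_le_right
  have hUV : U ≤ f ⁻¹ᵁ V := inf_le_right
  obtain ⟨v, hv⟩ := (hb U hUU₀).2 (d πX U (f.appLE V U hUV t))
  rw [comb_apply, Fin.sum_univ_two] at hv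
  let g : Fin 2 → Γ(Omega.sheaf πX, U) := fun i => LocGen.res (Omega.sheaf πX) hUU₀ (b i)
  have hv2 : d πX U (f.appLE V U hUV t) = v 0 • g 0 + v 1 • g 1 := hv.symm
  have hgen := (hβ.basis U g (hb.restrict hUU₀)) U le_rfl
  have hmg := (isGen_of_pair a (ht.pullSec f) hm).res hUV
  -- the two values of `w`
  have hw0 : (K83.WedgeDf.wm c β a).app U (g 0) =
      v 1 • tmul (β.app U (tmul (g 0) (g 1))) (LocGen.res M hUV m) := by
    rw [K83.WedgeDf.wm_frame πX πC f c hc β a hm hUV, hv2]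
    have h1 := K83.WedgeKer.pair_eq β hβ g ![1, 0] v
    simp only [Matrix.cons_val_zero, Matrix.cons_val_one, one_smul, zero_smul, add_zero, one_mul, zero_mul,
      sub_zero] at h1
    rw [h1, smul_tmul]
  have hw1 : (K83.WedgeDf.wm c β a).app U (g 1) =
      (-v 0) • tmul (β.app U (tmul (g 0) (g 1))) (LocGen.res M hUV m) := by
    rw [K83.WedgeDf.wm_frame πX πC f c hc β a hm hUV, hv2]
    have h1 := K83.WedgeKer.pair_eq β hβ g ![0, 1] v
    simp only [Matrix.cons_val_zero, Matrix.cons_val_one, one_smul, zero_smul, zero_add, one_mul, zero_mul,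
      zero_sub] at h1
    rw [h1, smul_tmul]
  -- the section `z` in terms of the generator
  obtain ⟨y, hy⟩ := Groth.Agent.Ega2.TensGen.exists_eq_tmul (F := W) hmg
    (LocGen.res (CohB1.tensorMod W M) hUU₁ z)
  obtain ⟨r, hr⟩ := hgen.2 y
  rw [comb_apply, Fin.sum_univ_one, Groth.Agent.Sga67.Sec.res_self] at hr
  have hr' : y = r 0 • β.app U (tmul (g 0) (g 1)) := hr.symm
  have hy2 : LocGen.res (CohB1.tensorMod W M) hUU₁ z =
      r 0 • tmul (β.app U (tmul (g 0) (g 1))) (LocGen.res M hUV m) := by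
    rw [hy, hr']
    exact smul_tmul _ _ _
  have hz : (CohB1.tensorMod W M).presheaf.germ U₁ x hxU₁ z = X.presheaf.germ U x hxU (r 0) •
      (CohB1.tensorMod W M).presheaf.germ U x hxU (tmul (β.app U (tmul (g 0) (g 1))) (LocGen.res M hUV m)) := by
    rw [← QCohStalk.germ_smul', ← hy2]
    exact (QCohStalk.germ_map (CohB1.tensorMod W M) hUU₁ x hxU z).symm
  -- one of the coordinates is a unit
  obtain ⟨ℓ, hℓ⟩ := K83.WedgeKer.exists_form πX πC f hf hΩC ht x hV hx
  have h7 : dSt πX x (f.stalkMap x (C.presheaf.germ V (f x) hV t)) =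
      X.presheaf.germ U x hxU (v 0) • (Omega.sheaf πX).presheaf.germ U x hxU (g 0) +
      X.presheaf.germ U x hxU (v 1) • (Omega.sheaf πX).presheaf.germ U x hxU (g 1) := by
    refine (congrArg (dSt πX x) (Scheme.Hom.germ_stalkMap_apply f V x hV t)).trans ?_
    refine Eq.trans (dSt_germ πX x (f ⁻¹ᵁ V) hV (f.app V t)) ?_
    rw [← QCohStalk.germ_smul', ← QCohStalk.germ_smul', ← map_add, ← hv2]
    refine Eq.trans (QCohStalk.germ_map (Omega.sheaf πX) hUV x hxU _).symm ?_
    exact congrArg _ (d_res πX hUV _)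
  rw [h7, map_add, map_smul, map_smul, smul_eq_mul, smul_eq_mul] at hℓ
  rcases IsLocalRing.isUnit_or_isUnit_of_isUnit_add hℓ with h0 | h1
  · have h0' := isUnit_of_mul_isUnit_left h0
    obtain ⟨u, hu⟩ := h0'
    refine ⟨(-(X.presheaf.germ U x hxU (r 0) * (↑u⁻¹ : X.presheaf.stalk x))) •
      (Omega.sheaf πX).presheaf.germ U x hxU (g 1), ?_⟩
    rw [map_smul, CycB.StalkExact.stalkLin_germ, hw1, QCohStalk.germ_smul', hz, smul_smul, map_neg, ← hu]
    congr 1
    rw [neg_mul_neg, mul_assoc, Units.inv_mul, mul_one]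
  · have h1' := isUnit_of_mul_isUnit_left h1
    obtain ⟨u, hu⟩ := h1'
    refine ⟨(X.presheaf.germ U x hxU (r 0) * (↑u⁻¹ : X.presheaf.stalk x)) •
      (Omega.sheaf πX).presheaf.germ U x hxU (g 0), ?_⟩
    rw [map_smul, CycB.StalkExact.stalkLin_germ, hw0, QCohStalk.germ_smul', hz, smul_smul, ← hu]
    congr 1
    rw [mul_assoc, Units.inv_mul, mul_one]

end

section

variable (k : Type u) [Field k] [IsAlgClosed k] {X C : Scheme.{u}}
  [X.Over (Spec (CommRingCat.of k))] [C.Over (Spec (CommRingCat.of k))] [IsProper (X ↘ Spec (CommRingCat.of k))]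
  [IsProper (C ↘ Spec (CommRingCat.of k))] [IsIntegral X] [IsIntegral C] [Smooth (X ↘ Spec (CommRingCat.of k))]
  [Smooth (C ↘ Spec (CommRingCat.of k))]
  (hdim : topologicalKrullDim X = 2) (hdimC : topologicalKrullDim C = 1) (f : X ⟶ C)
  (hf : f ≫ (C ↘ Spec (CommRingCat.of k)) = X ↘ Spec (CommRingCat.of k))
  (hss : Curv2.IsNodalFamily f)
  (q₀ : C) (hsm : Smooth (f.fiberToSpecResidueField q₀))
  {WX : X.Modules} (hWX : ExtPow.IsExtPow 2 (Omega.sheaf (X ↘ Spec (CommRingCat.of k))) WX)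
  {M : X.Modules}
  (hM : ClSub.IsInverseOf M ((Scheme.Modules.pullback f).obj (Omega.sheaf (C ↘ Spec (CommRingCat.of k)))))

include hdim hdimC hf hss hsm hWX hM in
/-- **The wedge with `df`** with all its properties. -/
theorem exists_w : ∃ w : Omega.sheaf (X ↘ (Spec (CommRingCat.of k))) ⟶ CohB1.tensorMod WX M,
    (∀ (V : C.Opens) (s : Γ(C, V)), K83.KerFrob.δ (X ↘ (Spec (CommRingCat.of k))) w (f ⁻¹ᵁ V) (f.app V s) = 0) ∧
    (∀ (x : X) (ω : (Omega.sheaf (X ↘ (Spec (CommRingCat.of k)))).presheaf.stalk x),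
      CycB.StalkExact.stalkLin w x ω = 0 →
      ω ∈ Submodule.span (X.presheaf.stalk x) (Set.range fun s : C.presheaf.stalk (f x) =>
        CurvesB.OmegaStalkDict.dSt (X ↘ (Spec (CommRingCat.of k))) x (f.stalkMap x s))) ∧
    (∀ x : X, CurvesB.NodalPoint.Sm f x → Function.Surjective (CycB.StalkExact.stalkLin w x)) := by
  have hp : IsProper f := K464.FibCurve.isProper k f hf
  have hfp : LocallyOfFinitePresentation f := hss.2.1
  have hΩC : FlatMod.IsFinLocFreeOfRank 1 (Omega.sheaf (C ↘ Spec (CommRingCat.of k))) := by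
    have := Picfga.CurveRelDim.smoothOfRelativeDimension_of_topologicalKrullDim_eq k C
      (C ↘ Spec (CommRingCat.of k)) 1 hdimC
    exact Vancyc.H878.OmegaRank.isFinLocFreeOfRank_omega 1 (C ↘ Spec (CommRingCat.of k))
  have hΩ : FlatMod.IsFinLocFreeOfRank 2 (Omega.sheaf (X ↘ Spec (CommRingCat.of k))) := by
    have := Picfga.CurveRelDim.smoothOfRelativeDimension_of_topologicalKrullDim_eq k X
      (X ↘ Spec (CommRingCat.of k)) 2 hdim
    exact Vancyc.H878.OmegaRank.isFinLocFreeOfRank_omega 2 (X ↘ Spec (CommRingCat.of k))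
  obtain ⟨β, hβ⟩ := K698.Wedge.exists_wedge hWX
  obtain ⟨a⟩ := hM
  obtain ⟨c, hc0, -⟩ := S9370.result (C ↘ Spec (CommRingCat.of k)) (X ↘ Spec (CommRingCat.of k)) f
    (𝟙 (Spec (CommRingCat.of k))) (by rw [Category.comp_id, hf]) _ (OmegaSh.dOmega _) (S5005.result _)
    _ (OmegaSh.dOmega _) (S5005.result _)
  have hc : ∀ (U : C.Opens) (s : Γ(C, U)),
      c.app (f ⁻¹ᵁ U) (LocGen.pullSec f (d (C ↘ Spec (CommRingCat.of k)) U s)) =
      d (X ↘ Spec (CommRingCat.of k)) (f ⁻¹ᵁ U) (f.app U s) := by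
    intro U s
    have h1 := hc0 U s
    rw [K853.OmegaBridge.dOmega_app_eq, K853.OmegaBridge.dOmega_app_eq] at h1
    exact h1
  refine ⟨K83.WedgeDf.wm c β a, K83.WedgeDf.δ_wm _ _ f c hc β hβ a hΩC, ?_, ?_⟩
  · intro x ω hω
    have hreg := S1535.result k X x
    obtain ⟨h1, h2⟩ := S2821.result (X.presheaf.stalk x)
    refine K83.WedgeKer.mem_span_of_wm _ _ f c hc β hβ a hf hΩC hΩ x ?_ ω hω
    intro y hyx hy
    by_contra hcon
    have h3 := K993.SingFin.isClosed_singleton f hss hdimC.le hsm hcon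
    have h4 := Fga.DimCut.ringKrullDim_stalk_eq k X y h3
    rw [hdim] at h4
    rw [h4] at hy
    exact absurd hy (by decide)
  · intro x hx
    exact surjective_of_smooth _ _ f c hc β hβ a hf hΩC hΩ x (CurvesB.NodalPoint.mem_smoothLocus_of_sm f x hx)

end

end K549.WedgeFin
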