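import Mathlib

set_option autoImplicit false
set_option linter.style.haveILetI false
universe u v w

section

/-!
# Leading coefficients along formal paths (helper549)

`K` a field, `B` a `K`-algebra with an augmentation `ev : B → K` whose kernel `I` satisfies `I = (τ) + I²`.
A path is a ring map `E : B → K'[[σ]]` lifting `ev`. The leading coefficient of `E b` is determined by
the first coefficient of `E τ`.
-/


open PowerSeries

namespace K549.Path

section CMP

variable {K : Type u} {B : Type v} {K' : Type w} [Field K] [CommRing B] [Algebra K B] [CommRing K']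
  [Algebra K K'] (ev : B →ₐ[K] K) (τ : B)

theorem sub_mem (y : B) : y - algebraMap K B (ev y) ∈ RingHom.ker ev := by
  rw [RingHom.mem_ker, map_sub, AlgHom.commutes, Algebra.algebraMap_self, RingHom.id_apply, sub_self]

variable {ev τ}

theorem X_pow_dvd {E : B →+* PowerSeries K'}
    (hE : ∀ b, constantCoeff (E b) = algebraMap K K' (ev b)) (n : ℕ) {b : B}
    (hb : b ∈ RingHom.ker ev ^ n) : (X : PowerSeries K') ^ n ∣ E b := by
  have h1 : (RingHom.ker ev).map E ≤ Ideal.span {(X : PowerSeries K')} := by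
    rw [Ideal.map_le_iff_le_comap]
    intro y hy
    rw [Ideal.mem_comap, Ideal.mem_span_singleton, X_dvd_iff, hE, (RingHom.mem_ker).1 hy, map_zero]
  have h2 : E b ∈ Ideal.span {(X : PowerSeries K')} ^ n :=
    Ideal.pow_right_mono h1 n (by
      rw [← Ideal.map_pow]
      exact Ideal.mem_map_of_mem _ hb)
  rwa [Ideal.span_singleton_pow, Ideal.mem_span_singleton] at h2

theorem pow_le (hτ : τ ∈ RingHom.ker ev)
    (hI : RingHom.ker ev ≤ Ideal.span {τ} ⊔ RingHom.ker ev ^ 2) (n : ℕ) :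
    RingHom.ker ev ^ n ≤ Ideal.span {τ ^ n} ⊔ RingHom.ker ev ^ (n + 1) := by
  induction n with
  | zero => simp
  | succ n ih =>
    have h1 : Ideal.span {τ ^ n} ≤ RingHom.ker ev ^ n := by
      rw [Ideal.span_singleton_le_iff_mem]
      exact Ideal.pow_mem_pow hτ n
    calc RingHom.ker ev ^ (n + 1) = RingHom.ker ev ^ n * RingHom.ker ev := pow_succ _ _
      _ ≤ (Ideal.span {τ ^ n} ⊔ RingHom.ker ev ^ (n + 1)) * RingHom.ker ev := Ideal.mul_mono_left ih
      _ = Ideal.span {τ ^ n} * RingHom.ker ev ⊔ RingHom.ker ev ^ (n + 1 + 1) := by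
          rw [Ideal.sup_mul, ← pow_succ]
      _ ≤ Ideal.span {τ ^ n} * (Ideal.span {τ} ⊔ RingHom.ker ev ^ 2) ⊔ RingHom.ker ev ^ (n + 1 + 1) :=
          sup_le_sup_right (Ideal.mul_mono_right hI) _
      _ ≤ Ideal.span {τ ^ (n + 1)} ⊔ RingHom.ker ev ^ (n + 1 + 1) := by
          rw [Ideal.mul_sup, Ideal.span_singleton_mul_span_singleton, ← pow_succ]
          refine sup_le (sup_le le_sup_left ?_) le_sup_right
          refine le_trans (Ideal.mul_mono_left h1) ?_
          rw [← pow_add]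
          exact le_sup_right

theorem exists_coeff (hτ : τ ∈ RingHom.ker ev)
    (hI : RingHom.ker ev ≤ Ideal.span {τ} ⊔ RingHom.ker ev ^ 2) (n : ℕ) {b : B}
    (hb : b ∈ RingHom.ker ev ^ n) : ∃ r : K, b - algebraMap K B r * τ ^ n ∈ RingHom.ker ev ^ (n + 1) := by
  obtain ⟨y, hy, i, hi, rfl⟩ := Submodule.mem_sup.1 (pow_le hτ hI n hb)
  obtain ⟨c, rfl⟩ := Ideal.mem_span_singleton'.1 hy
  refine ⟨ev c, ?_⟩
  have h1 : c * τ ^ n + i - algebraMap K B (ev c) * τ ^ n =
      (c - algebraMap K B (ev c)) * τ ^ n + i := by ring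
  rw [h1]
  refine add_mem ?_ hi
  rw [pow_succ']
  exact Ideal.mul_mem_mul (sub_mem ev c) (Ideal.pow_mem_pow hτ n)

/-- the leading coefficient along a path -/
theorem coeff_eq (hτ : τ ∈ RingHom.ker ev) {E : B →+* PowerSeries K'}
    (hE : ∀ b, constantCoeff (E b) = algebraMap K K' (ev b))
    (hEK : ∀ r : K, E (algebraMap K B r) = C (algebraMap K K' r)) (n : ℕ) {b : B} {r : K}
    (hb : b - algebraMap K B r * τ ^ n ∈ RingHom.ker ev ^ (n + 1)) :
    coeff n (E b) = algebraMap K K' r * (coeff 1 (E τ)) ^ n := by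
  have h1 := X_pow_dvd hE (n + 1) hb
  have h2 : (X : PowerSeries K') ∣ E τ := by
    have := X_pow_dvd hE 1 (by rwa [pow_one] : τ ∈ RingHom.ker ev ^ 1)
    rwa [pow_one] at this
  obtain ⟨t, ht⟩ := h2
  have h3 : coeff n (E (b - algebraMap K B r * τ ^ n)) = 0 :=
    (X_pow_dvd_iff.1 h1) n (Nat.lt_succ_self n)
  rw [map_sub, map_sub, sub_eq_zero] at h3
  rw [h3, map_mul, hEK, map_pow, coeff_C_mul, ht, mul_pow, coeff_X_pow_mul', if_pos le_rfl, Nat.sub_self]
  rw [coeff_succ_X_mul 0 t]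
  rw [coeff_zero_eq_constantCoeff, map_pow]

theorem exists_order [IsNoetherianRing B] {b : B} (hb : b ∈ nonZeroDivisors B) :
    ∃ n : ℕ, b ∈ RingHom.ker ev ^ n ∧ b ∉ RingHom.ker ev ^ (n + 1) := by
  classical
  have h1 : ∃ n, b ∉ RingHom.ker ev ^ n := by
    by_contra hcon
    push Not at hcon
    have h2 : b ∈ (⨅ i : ℕ, RingHom.ker ev ^ i • ⊤ : Submodule B B) := by
      rw [Submodule.mem_iInf]
      intro i
      rw [smul_eq_mul, Ideal.mul_top]
      exact hcon i
    obtain ⟨r, hr⟩ := (Ideal.mem_iInf_smul_pow_eq_bot_iff (RingHom.ker ev) b).1 h2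
    have h3 : (1 - (r : B)) * b = 0 := by
      rw [sub_mul, one_mul, ← smul_eq_mul, hr, sub_self]
    have h4 := (mul_right_mem_nonZeroDivisors_eq_zero_iff hb).1 h3
    have h5 : ev (r : B) = 0 := r.2
    have h6 : (r : B) = 1 := (sub_eq_zero.1 h4).symm
    rw [h6, map_one] at h5
    exact one_ne_zero h5
  have h0 : Nat.find h1 ≠ 0 := by
    intro h
    have := Nat.find_spec h1
    rw [h] at this
    simp at this
  obtain ⟨n, hn⟩ := Nat.exists_eq_succ_of_ne_zero h0
  refine ⟨n, ?_, ?_⟩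
  · have := Nat.find_min h1 (m := n) (by omega)
    rwa [not_not] at this
  · have := Nat.find_spec h1
    rwa [hn] at this

end CMP

end K549.Path

end

section

/-!
# Integrality of leading coefficients (helper549)
-/


open PowerSeries TensorProduct

namespace K549.LocInt

section ev

variable (K₀ F K₁ : Type u) [CommRing K₀] [CommRing F] [Field K₁] [Algebra K₀ F] [Algebra K₀ K₁] [Algebra F K₁]
  [IsScalarTower K₀ F K₁]

/-- the augmentation `K₁ ⊗ F → K₁` -/
noncomputable def ev : K₁ ⊗[K₀] F →ₐ[K₁] K₁ :=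
  Algebra.TensorProduct.lift (AlgHom.id K₁ K₁) (IsScalarTower.toAlgHom K₀ F K₁) (fun _ _ => Commute.all _ _)

theorem ev_tmul (a : K₁) (b : F) : ev K₀ F K₁ (a ⊗ₜ b) = a * algebraMap F K₁ b := by
  unfold ev
  rw [Algebra.TensorProduct.lift_tmul]
  rfl

variable {F}

/-- the difference element -/
noncomputable def tau (z : F) : K₁ ⊗[K₀] F := 1 ⊗ₜ z - algebraMap F K₁ z ⊗ₜ 1

theorem tau_mem (z : F) : tau K₀ K₁ z ∈ RingHom.ker (ev K₀ F K₁) := by
  rw [RingHom.mem_ker, tau, map_sub, ev_tmul, ev_tmul, one_mul, map_one, mul_one, sub_self]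

end ev

/-- ring maps out of a tensor product over a field -/
theorem exists_lift {K₀ F K₁ L : Type u} [CommRing K₀] [CommRing F] [CommRing K₁] [CommRing L] [Algebra K₀ F]
    [Algebra K₀ K₁] (E : F →+* L) (c : K₁ →+* L)
    (h : ∀ y : K₀, E (algebraMap K₀ F y) = c (algebraMap K₀ K₁ y)) :
    ∃ EB : K₁ ⊗[K₀] F →+* L, ∀ (y : K₁) (q : F), EB (y ⊗ₜ q) = c y * E q := by
  let _ : Algebra K₀ L := (E.comp (algebraMap K₀ F)).toAlgebra
  let EA : F →ₐ[K₀] L := { E with commutes' := fun _ => rfl }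
  let CA : K₁ →ₐ[K₀] L := { c with commutes' := fun y => (h y).symm }
  exact ⟨(Algebra.TensorProduct.lift CA EA (fun _ _ => Commute.all _ _)).toRingHom,
    fun y q => Algebra.TensorProduct.lift_tmul CA EA (fun _ _ => Commute.all _ _) y q⟩

section pure

variable {O O₂ K₁ : Type u} [CommRing O] [CommRing O₂] [Field K₁] [Algebra O K₁] [Algebra O O₂]
  [Module.FaithfullyFlat O O₂]

theorem mem_range_of_eq {x : K₁} {b : O₂} (h : x ⊗ₜ[O] (1 : O₂) = (1 : K₁) ⊗ₜ[O] b) :
    ∃ a : O, algebraMap O K₁ a = x := by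
  let N : Submodule O K₁ := LinearMap.range (Algebra.linearMap O K₁)
  have h1 : (Submodule.Quotient.mk x : K₁ ⧸ N) ⊗ₜ[O] (1 : O₂) = 0 := by
    have h2 := congrArg (TensorProduct.map N.mkQ (LinearMap.id : O₂ →ₗ[O] O₂)) h
    rw [TensorProduct.map_tmul, TensorProduct.map_tmul] at h2
    have h3 : N.mkQ (1 : K₁) = 0 := by
      rw [Submodule.mkQ_apply, Submodule.Quotient.mk_eq_zero]
      exact ⟨1, (algebraMap O K₁).map_one⟩
    rw [h3, TensorProduct.zero_tmul] at h2
    exact h2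
  have h4 : Function.Injective (TensorProduct.mk O O₂ (K₁ ⧸ N) 1) :=
    Module.FaithfullyFlat.tensorProduct_mk_injective (K₁ ⧸ N)
  have h5 : (1 : O₂) ⊗ₜ[O] (Submodule.Quotient.mk x : K₁ ⧸ N) = 0 := by
    have := congrArg (TensorProduct.comm O (K₁ ⧸ N) O₂) h1
    rw [TensorProduct.comm_tmul, map_zero] at this
    exact this
  have h6 : (Submodule.Quotient.mk x : K₁ ⧸ N) = 0 := h4 (by rw [map_zero]; exact h5)
  rw [Submodule.Quotient.mk_eq_zero] at h6
  exact h6

end pure

theorem main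
    {K₀ F K₁ S O O₂ : Type u} [CommRing K₀] [CommRing F] [Field K₁] [CommRing S] [CommRing O] [CommRing O₂]
    [Algebra K₀ F] [Algebra K₀ K₁] [Algebra F K₁] [IsScalarTower K₀ F K₁]
    [Algebra S K₀] [Algebra S O] [Algebra O F] [Algebra O K₁] [IsScalarTower O F K₁] [Algebra O O₂]
    [Module.FaithfullyFlat O O₂]
    (P : Ideal O) [P.IsPrime] (hP : ∀ s : O, algebraMap O K₁ s = 0 ↔ s ∈ P) [IsLocalization.AtPrime F P]
    (hS : ∀ s : S, algebraMap K₀ F (algebraMap S K₀ s) = algebraMap O F (algebraMap S O s))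
    (hK₀ : ∀ y : K₀, ∃ a s : S, algebraMap K₀ K₁ (algebraMap S K₀ s) ≠ 0 ∧
      y * algebraMap S K₀ s = algebraMap S K₀ a)
    (T : O₂ →+* PowerSeries O₂) (hT0 : ∀ a, constantCoeff (T a) = a)
    (hTS : ∀ s : S, T (algebraMap O O₂ (algebraMap S O s)) = C (algebraMap O O₂ (algebraMap S O s)))
    (w : O₂) (δ : O → O)
    (hδ : ∀ a : O, algebraMap O O₂ (δ a) = w * coeff 1 (T (algebraMap O O₂ a)))
    (z g : F) (m : ℕ) (r : K₁) (hg0 : (1 : K₁) ⊗ₜ[K₀] g ∈ RingHom.ker (ev K₀ F K₁) ^ m)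
    (hg : (1 : K₁) ⊗ₜ[K₀] g - algebraMap K₁ (K₁ ⊗[K₀] F) r * (tau K₀ K₁ z) ^ m ∈
      RingHom.ker (ev K₀ F K₁) ^ (m + 1))
    (gx : O) (h : F) (hh : algebraMap O F gx = h * g)
    (dz : F) (a s : O) (hs : algebraMap O K₁ s ≠ 0) (hz : z * algebraMap O F s = algebraMap O F a)
    (hdz : dz * algebraMap O F s ^ 2 =
      algebraMap O F (δ a) * algebraMap O F s - algebraMap O F a * algebraMap O F (δ s)) :
    ∃ b : O, algebraMap O K₁ b = algebraMap F K₁ h * r * algebraMap F K₁ dz ^ m := by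
  let K' := K₁ ⊗[O] O₂
  let π : O₂ →+* K' := (Algebra.TensorProduct.includeRight : O₂ →ₐ[O] K₁ ⊗[O] O₂).toRingHom
  have hπ : ∀ y : O, π (algebraMap O O₂ y) = algebraMap K₁ K' (algebraMap O K₁ y) := by
    intro y
    change (1 : K₁) ⊗ₜ[O] (algebraMap O O₂ y) = algebraMap O K₁ y ⊗ₜ[O] 1
    rw [Algebra.algebraMap_eq_smul_one, Algebra.algebraMap_eq_smul_one, TensorProduct.smul_tmul]
  let E₀ : O →+* PowerSeries K' := ((PowerSeries.map π).comp T).comp (algebraMap O O₂)
  have hE₀0 : ∀ y : O, constantCoeff (E₀ y) = algebraMap K₁ K' (algebraMap O K₁ y) := by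
    intro y
    change constantCoeff (PowerSeries.map π (T (algebraMap O O₂ y))) = _
    rw [← coeff_zero_eq_constantCoeff_apply, coeff_map, coeff_zero_eq_constantCoeff_apply, hT0, hπ]
  have hE₀c : ∀ (n : ℕ) (y : O), coeff n (E₀ y) = π (coeff n (T (algebraMap O O₂ y))) := by
    intro n y
    change coeff n (PowerSeries.map π (T (algebraMap O O₂ y))) = _
    rw [coeff_map]
  have hu : ∀ y : P.primeCompl, IsUnit (E₀ y) := by
    intro y
    rw [isUnit_iff_constantCoeff, hE₀0]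
    have : algebraMap O K₁ y ≠ 0 := fun h0 => y.2 ((hP _).1 h0)
    exact (IsUnit.mk0 _ this).map _
  let E : F →+* PowerSeries K' := IsLocalization.lift (M := P.primeCompl) hu
  have hE : ∀ y : O, E (algebraMap O F y) = E₀ y := fun y => IsLocalization.lift_eq hu y
  have hE0 : ∀ y : F, constantCoeff (E y) = algebraMap K₁ K' (algebraMap F K₁ y) := by
    intro y
    obtain ⟨⟨c, t⟩, hc⟩ := IsLocalization.surj (M := P.primeCompl) y
    have h1 : algebraMap O K₁ (t : O) ≠ 0 := fun h0 => t.2 ((hP _).1 h0)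
    have h2 : IsUnit (algebraMap K₁ K' (algebraMap O K₁ (t : O))) := (IsUnit.mk0 _ h1).map _
    have h3 := congrArg (fun q => constantCoeff (E q)) hc
    simp only [map_mul, hE, hE₀0] at h3
    have h4 := congrArg (fun q => algebraMap K₁ K' (algebraMap F K₁ q)) hc
    simp only [map_mul, ← IsScalarTower.algebraMap_apply O F K₁] at h4
    exact h2.mul_right_cancel (h3.trans h4.symm)
  have hEK : ∀ y : K₀, E (algebraMap K₀ F y) = C (algebraMap K₁ K' (algebraMap K₀ K₁ y)) := by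
    intro y
    obtain ⟨c, t, ht, hc⟩ := hK₀ y
    have key : ∀ q : S, E (algebraMap K₀ F (algebraMap S K₀ q)) =
        C (algebraMap K₁ K' (algebraMap K₀ K₁ (algebraMap S K₀ q))) := by
      intro q
      rw [hS, hE]
      change PowerSeries.map π (T (algebraMap O O₂ (algebraMap S O q))) = _
      rw [hTS, PowerSeries.map_C, hπ, IsScalarTower.algebraMap_apply O F K₁, ← hS,
        ← IsScalarTower.algebraMap_apply K₀ F K₁]
    have h1 := congrArg (fun q => E (algebraMap K₀ F q)) hc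
    simp only [map_mul, key] at h1
    have h2 := congrArg (fun q => C (algebraMap K₁ K' (algebraMap K₀ K₁ q))) hc
    simp only [map_mul] at h2
    have h3 : IsUnit (C (algebraMap K₁ K' (algebraMap K₀ K₁ (algebraMap S K₀ t)))) := by
      exact IsUnit.map _ (IsUnit.map _ (IsUnit.mk0 _ ht))
    exact h3.mul_right_cancel (h1.trans h2.symm)
  -- the map on the tensor product
  obtain ⟨EB, hEB⟩ := exists_lift E ((C (R := K')).comp (algebraMap K₁ K')) hEK
  simp only [RingHom.comp_apply] at hEB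
  have hEB0 : ∀ b, constantCoeff (EB b) = algebraMap K₁ K' (ev K₀ F K₁ b) := by
    intro b
    induction b using TensorProduct.induction_on with
    | zero => rw [map_zero, map_zero, map_zero, map_zero]
    | tmul y q => rw [hEB, ev_tmul, map_mul, map_mul, hE0, constantCoeff_C]
    | add b b' ih ih' => rw [map_add, map_add, map_add, map_add, ih, ih']
  have hEBK : ∀ y : K₁, EB (algebraMap K₁ (K₁ ⊗[K₀] F) y) = C (algebraMap K₁ K' y) := by
    intro y
    rw [Algebra.TensorProduct.algebraMap_apply, Algebra.algebraMap_self, RingHom.id_apply, hEB, map_one, mul_one]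
  have h1 := Path.coeff_eq (ev := ev K₀ F K₁) (E := EB) (tau_mem K₀ K₁ z) hEB0 hEBK m hg
  have h2 : (X : PowerSeries K') ^ m ∣ E g := by
    have := Path.X_pow_dvd (ev := ev K₀ F K₁) (E := EB) hEB0 m hg0
    change X ^ m ∣ EB ((1 : K₁) ⊗ₜ g) at this
    rwa [hEB, map_one, map_one, one_mul] at this
  change coeff m (EB ((1 : K₁) ⊗ₜ g)) = _ * (coeff 1 (EB (tau K₀ K₁ z))) ^ m at h1
  rw [hEB, map_one, map_one, one_mul, tau, map_sub, hEB, hEB, map_one, map_one, one_mul, map_one, mul_one,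
    map_sub, coeff_C, if_neg one_ne_zero, sub_zero] at h1
  -- the first coefficient
  have hcs : IsUnit (algebraMap K₁ K' (algebraMap O K₁ s)) := (IsUnit.mk0 _ hs).map _
  have h3 : π w * coeff 1 (E z) = algebraMap K₁ K' (algebraMap F K₁ dz) := by
    have e1 := congrArg (fun q => coeff 1 (E q)) hz
    simp only [map_mul, hE] at e1
    rw [coeff_one_mul, hE0, hE₀0] at e1
    have e2 : ∀ q : O, π w * coeff 1 (E₀ q) = algebraMap K₁ K' (algebraMap O K₁ (δ q)) := by
      intro q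
      rw [hE₀c, ← map_mul, ← hδ, hπ]
    have e3 := congrArg (fun q => algebraMap K₁ K' (algebraMap F K₁ q)) hdz
    simp only [map_mul, map_sub, map_pow, ← IsScalarTower.algebraMap_apply O F K₁] at e3
    have e4 := congrArg (fun q => algebraMap K₁ K' (algebraMap F K₁ q)) hz
    simp only [map_mul, ← IsScalarTower.algebraMap_apply O F K₁] at e4
    refine (hcs.pow 2).mul_right_cancel ?_
    rw [e3, ← e2, ← e2, ← e4]
    linear_combination (π w * algebraMap K₁ K' (algebraMap O K₁ s)) * e1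
  have h4 : coeff m (E₀ gx) = algebraMap K₁ K' (algebraMap F K₁ h) * coeff m (E g) := by
    rw [← hE, hh, map_mul]
    obtain ⟨q, hq⟩ := h2
    rw [hq, mul_left_comm, coeff_X_pow_mul', if_pos le_rfl, Nat.sub_self, coeff_X_pow_mul', if_pos le_rfl,
      Nat.sub_self, coeff_zero_eq_constantCoeff_apply, coeff_zero_eq_constantCoeff_apply, map_mul, hE0]
  apply mem_range_of_eq (b := w ^ m * coeff m (T (algebraMap O O₂ gx)))
  change algebraMap K₁ K' _ = π _
  have e5 : algebraMap K₁ K' (algebraMap F K₁ h * r * algebraMap F K₁ dz ^ m) =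
      algebraMap K₁ K' (algebraMap F K₁ h) * algebraMap K₁ K' r * (algebraMap K₁ K' (algebraMap F K₁ dz)) ^ m := by
    rw [map_mul, map_mul, map_pow]
  refine e5.trans ?_
  rw [map_mul, map_pow, ← hE₀c, h4, h1, ← h3, mul_pow]
  ring

end K549.LocInt

end

section

/-!
# Leading coefficients at a generic point (helper549)
-/


open PowerSeries TensorProduct

namespace K549.Gen

open K549.LocInt

/-- a derivation killing an element whose differential generates vanishes -/
theorem eq_zero_of_span {K₀ F A : Type u} [CommRing K₀] [CommRing F] [Algebra K₀ F] [CommRing A] {z : F}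
    (hz : Submodule.span F {KaehlerDifferential.D K₀ F z} = ⊤) (ρ : F →+* A) (t : F → A)
    (hadd : ∀ b c, t (b + c) = t b + t c) (hmul : ∀ b c, t (b * c) = ρ b * t c + ρ c * t b)
    (hK : ∀ c, t (algebraMap K₀ F c) = 0) (h0 : t z = 0) (b : F) : t b = 0 := by
  let _ : Algebra F A := ρ.toAlgebra
  let _ : Algebra K₀ A := (ρ.comp (algebraMap K₀ F)).toAlgebra
  have : IsScalarTower K₀ F A := IsScalarTower.of_algebraMap_eq fun _ => rfl
  let Δ : Derivation K₀ F A := Derivation.mk' (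
    { toFun := t
      map_add' := hadd
      map_smul' := fun c b => by
        rw [Algebra.smul_def, hmul, hK, mul_zero, add_zero, RingHom.id_apply, Algebra.smul_def]
        rfl } : F →ₗ[K₀] A) (fun b c => hmul b c)
  have h2 : Δ.liftKaehlerDifferential = 0 := by
    have h3 : (⊤ : Submodule F (Ω[F⁄K₀])) ≤ LinearMap.ker Δ.liftKaehlerDifferential := by
      rw [← hz, Submodule.span_le, Set.singleton_subset_iff, SetLike.mem_coe, LinearMap.mem_ker,
        Derivation.liftKaehlerDifferential_comp_D]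
      exact h0
    exact LinearMap.ext fun y => h3 trivial
  change Δ b = 0
  rw [← Derivation.liftKaehlerDifferential_comp_D, h2, LinearMap.zero_apply]

section

variable {K₀ F K₁ : Type u} [CommRing K₀] [CommRing F] [Field K₁] [Algebra K₀ F] [Algebra K₀ K₁] [Algebra F K₁]
  [IsScalarTower K₀ F K₁]

omit [IsScalarTower K₀ F K₁] in
theorem tau_mul (b c : F) : tau K₀ K₁ (b * c) = (1 ⊗ₜ b) * tau K₀ K₁ c + (1 ⊗ₜ c) * tau K₀ K₁ b -
    tau K₀ K₁ b * tau K₀ K₁ c := by
  have h1 : ((1 : K₁) ⊗ₜ[K₀] (b * c)) = ((1 : K₁) ⊗ₜ[K₀] b) * (1 ⊗ₜ c) := by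
    rw [Algebra.TensorProduct.tmul_mul_tmul, mul_one]
  have h2 : ((algebraMap F K₁ b * algebraMap F K₁ c) ⊗ₜ[K₀] (1 : F)) =
      (algebraMap F K₁ b ⊗ₜ[K₀] (1 : F)) * (algebraMap F K₁ c ⊗ₜ[K₀] (1 : F)) := by
    rw [Algebra.TensorProduct.tmul_mul_tmul, mul_one]
  unfold tau
  rw [map_mul, h1, h2]
  ring

omit [IsScalarTower K₀ F K₁] in
theorem tau_add (b c : F) : tau K₀ K₁ (b + c) = tau K₀ K₁ b + tau K₀ K₁ c := by
  unfold tau
  rw [map_add, TensorProduct.tmul_add, TensorProduct.add_tmul]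
  ring

theorem tau_algebraMap (c : K₀) : tau K₀ K₁ (algebraMap K₀ F c) = 0 := by
  unfold tau
  rw [← IsScalarTower.algebraMap_apply K₀ F K₁, Algebra.algebraMap_eq_smul_one, Algebra.algebraMap_eq_smul_one,
    TensorProduct.smul_tmul, sub_self]

/-- the kernel of the augmentation, modulo its square, is spanned by `τ z` when `dz` generates the differentials -/
theorem ker_le {z : F} (hz : Submodule.span F {KaehlerDifferential.D K₀ F z} = ⊤) :
    RingHom.ker (ev K₀ F K₁) ≤ Ideal.span {tau K₀ K₁ z} ⊔ RingHom.ker (ev K₀ F K₁) ^ 2 := by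
  set J : Ideal (K₁ ⊗[K₀] F) := Ideal.span {tau K₀ K₁ z} ⊔ RingHom.ker (ev K₀ F K₁) ^ 2 with hJ
  have h4 : ∀ b : F, tau K₀ K₁ b ∈ J := by
    intro b
    rw [← Ideal.Quotient.eq_zero_iff_mem]
    refine eq_zero_of_span (K₀ := K₀) hz
      ((Ideal.Quotient.mk J).comp (Algebra.TensorProduct.includeRight : F →ₐ[K₀] K₁ ⊗[K₀] F).toRingHom)
      (fun b => Ideal.Quotient.mk J (tau K₀ K₁ b)) (fun b c => ?_) (fun b c => ?_) (fun c => ?_) ?_ b
    · rw [tau_add, map_add]
    · change Ideal.Quotient.mk J (tau K₀ K₁ (b * c)) =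
        Ideal.Quotient.mk J ((1 : K₁) ⊗ₜ b) * Ideal.Quotient.mk J (tau K₀ K₁ c) +
        Ideal.Quotient.mk J ((1 : K₁) ⊗ₜ c) * Ideal.Quotient.mk J (tau K₀ K₁ b)
      rw [tau_mul, map_sub, map_add, map_mul, map_mul]
      have h1 : Ideal.Quotient.mk J (tau K₀ K₁ b * tau K₀ K₁ c) = 0 := by
        rw [Ideal.Quotient.eq_zero_iff_mem]
        refine Ideal.mem_sup_right ?_
        rw [pow_two]
        exact Ideal.mul_mem_mul (tau_mem K₀ K₁ b) (tau_mem K₀ K₁ c)
      rw [h1, sub_zero]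
    · change Ideal.Quotient.mk J (tau K₀ K₁ (algebraMap K₀ F c)) = 0
      rw [tau_algebraMap, map_zero]
    · rw [Ideal.Quotient.eq_zero_iff_mem]
      exact Ideal.mem_sup_left (Ideal.mem_span_singleton_self _)
  have h5 : ∀ y : K₁ ⊗[K₀] F, y - algebraMap K₁ (K₁ ⊗[K₀] F) (ev K₀ F K₁ y) ∈ J := by
    intro y
    induction y using TensorProduct.induction_on with
    | zero => rw [map_zero, map_zero, sub_zero]; exact J.zero_mem
    | tmul a b =>
      have h6 : a ⊗ₜ[K₀] b - algebraMap K₁ (K₁ ⊗[K₀] F) (ev K₀ F K₁ (a ⊗ₜ b)) = (a ⊗ₜ 1) * tau K₀ K₁ b := by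
        rw [ev_tmul, Algebra.TensorProduct.algebraMap_apply, Algebra.algebraMap_self, RingHom.id_apply, tau, mul_sub,
          Algebra.TensorProduct.tmul_mul_tmul, Algebra.TensorProduct.tmul_mul_tmul, mul_one, mul_one, one_mul]
      rw [h6]
      exact J.mul_mem_left _ (h4 b)
    | add y y' ih ih' =>
      have h6 : y + y' - algebraMap K₁ (K₁ ⊗[K₀] F) (ev K₀ F K₁ (y + y')) =
        (y - algebraMap K₁ (K₁ ⊗[K₀] F) (ev K₀ F K₁ y)) + (y' - algebraMap K₁ (K₁ ⊗[K₀] F) (ev K₀ F K₁ y')) := by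
        rw [map_add, map_add]
        ring
      rw [h6]
      exact J.add_mem ih ih'
  intro y hy
  have h6 := h5 y
  rwa [(RingHom.mem_ker).1 hy, map_zero, sub_zero] at h6

/-- the leading coefficient of a function vanishing at the generic point -/
theorem exists_lead [Module.Flat K₀ K₁] [IsNoetherianRing (K₁ ⊗[K₀] F)] {z g : F}
    (hz : Submodule.span F {KaehlerDifferential.D K₀ F z} = ⊤) (hg : g ∈ nonZeroDivisors F)
    (hg0 : algebraMap F K₁ g = 0) :
    ∃ (m : ℕ) (r : K₁), 1 ≤ m ∧ r ≠ 0 ∧ (1 : K₁) ⊗ₜ[K₀] g ∈ RingHom.ker (ev K₀ F K₁) ^ m ∧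
      (1 : K₁) ⊗ₜ[K₀] g - algebraMap K₁ (K₁ ⊗[K₀] F) r * (tau K₀ K₁ z) ^ m ∈
      RingHom.ker (ev K₀ F K₁) ^ (m + 1) := by
  have h1 : (1 : K₁) ⊗ₜ[K₀] g ∈ nonZeroDivisors (K₁ ⊗[K₀] F) := by
    have h2 : Function.Injective (LinearMap.lsmul F F g |>.restrictScalars K₀) := by
      intro a b hab
      exact (mul_cancel_left_mem_nonZeroDivisors hg).1 hab
    have h3 := Module.Flat.lTensor_preserves_injective_linearMap (M := K₁) _ h2
    have h4 : ∀ y : K₁ ⊗[K₀] F, LinearMap.lTensor K₁ (LinearMap.lsmul F F g |>.restrictScalars K₀) y =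
        ((1 : K₁) ⊗ₜ[K₀] g) * y := by
      intro y
      induction y using TensorProduct.induction_on with
      | zero => rw [map_zero, mul_zero]
      | tmul a b =>
        rw [LinearMap.lTensor_tmul, Algebra.TensorProduct.tmul_mul_tmul, one_mul]
        rfl
      | add y y' ih ih' => rw [map_add, mul_add, ih, ih']
    rw [mem_nonZeroDivisors_iff_left]
    intro y hy
    apply h3
    rw [map_zero, h4, hy]
  obtain ⟨n, hn, hn'⟩ := Path.exists_order (ev := ev K₀ F K₁) h1
  obtain ⟨r, hr⟩ := Path.exists_coeff (ev := ev K₀ F K₁) (tau_mem K₀ K₁ z) (ker_le hz) n hn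
  refine ⟨n, r, ?_, ?_, hn, hr⟩
  · rw [Nat.one_le_iff_ne_zero]
    rintro rfl
    apply hn'
    rw [zero_add, pow_one, RingHom.mem_ker, ev_tmul, hg0, mul_zero]
  · rintro rfl
    rw [map_zero, zero_mul, sub_zero] at hr
    exact hn' hr

end

end K549.Gen

end
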