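import Mathlib
import Groth.Agent.Models.NodeRing
import Groth.Agent.CAlg.K69.EtaleLoc
import Groth.Agent.S0558
import Groth.Agent.CurvesB.NodalPoint
import Groth.Agent.CurvesC.NodeFinal

set_option autoImplicit false
set_option linter.style.haveILetI false
universe u v w

section

/-!
# Formal flows (helper549)

A flow on a ring `O` is a ring map `T : O → O[[σ]]` lifting the identity. For `O` formally smooth over `S`
every `S`-derivation is the first coefficient of a flow over `S`; for `O` formally étale over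
`C[u,v]/(uv - c)` there is the flow of the multiplicative group.
-/


open PowerSeries

namespace K549.Flow

/-- powers of the ideal -/
theorem isAdicComplete_sq {A : Type u} [CommRing A] (I : Ideal A) [h : IsAdicComplete I A] :
    IsAdicComplete (I ^ 2) A := by
  have hle : ∀ n : ℕ, (I ^ 2) ^ n • (⊤ : Submodule A A) ≤ I ^ n • (⊤ : Submodule A A) := by
    intro n
    rw [← pow_mul]
    exact Submodule.smul_mono_left (Ideal.pow_le_pow_right (by omega))
  have h1 : IsHausdorff (I ^ 2) A := by
    refine ⟨fun x hx => IsHausdorff.haus (I := I) inferInstance x fun n => ?_⟩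
    exact SModEq.mono (hle n) (hx n)
  have h2 : IsPrecomplete (I ^ 2) A := by
    refine ⟨fun f hf => ?_⟩
    obtain ⟨L, hL⟩ := IsPrecomplete.prec (I := I) inferInstance (f := f)
      (fun {m n} hmn => SModEq.mono (hle m) (hf hmn))
    refine ⟨L, fun n => ?_⟩
    refine (hf (show n ≤ 2 * n by omega)).trans ?_
    have := hL (2 * n)
    rwa [pow_mul] at this
  exact { toIsHausdorff := h1, toIsPrecomplete := h2 }

/-- lifting ring maps out of a formally smooth algebra -/
theorem exists_lift {R A L : Type u} [CommRing R] [CommRing A] [CommRing L] [Algebra R A]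
    [Algebra.FormallySmooth R A] (I : Ideal L) [IsAdicComplete I L] (φ : R →+* L) (f : A →+* L ⧸ I)
    (h : ∀ r, f (algebraMap R A r) = Ideal.Quotient.mk I (φ r)) :
    ∃ g : A →+* L, (∀ r, g (algebraMap R A r) = φ r) ∧ ∀ a, Ideal.Quotient.mk I (g a) = f a := by
  let _ : Algebra R L := φ.toAlgebra
  let F : A →ₐ[R] L ⧸ I := { f with commutes' := h }
  obtain ⟨g, hg⟩ := Algebra.FormallySmooth.exists_mkₐ_comp_eq_of_isAdicComplete F
  exact ⟨g.toRingHom, fun r => g.commutes r, fun a => congrArg (fun q => q a) hg⟩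

section smooth

variable {S O : Type u} [CommRing S] [CommRing O] [Algebra S O]

/-- every derivation of a formally smooth algebra is the first coefficient of a flow -/
theorem exists_flow [Algebra.FormallySmooth S O] (δ : Derivation S O O) :
    ∃ T : O →+* PowerSeries O, (∀ a, constantCoeff (T a) = a) ∧
      (∀ s : S, T (algebraMap S O s) = C (algebraMap S O s)) ∧ ∀ a, coeff 1 (T a) = δ a := by
  let I : Ideal (PowerSeries O) := Ideal.span {(X : PowerSeries O)}
  have hI : IsAdicComplete I (PowerSeries O) := inferInstance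
  have hI2 : IsAdicComplete (I ^ 2) (PowerSeries O) := isAdicComplete_sq I
  have hXI : (X : PowerSeries O) ^ 2 ∈ I ^ 2 := Ideal.pow_mem_pow (Ideal.mem_span_singleton_self _) 2
  let f₀ : O → PowerSeries O := fun a => C a + C (δ a) * X
  let f : O →+* PowerSeries O ⧸ I ^ 2 :=
    { toFun := fun a => Ideal.Quotient.mk _ (f₀ a)
      map_one' := by simp [f₀]
      map_zero' := by simp [f₀]
      map_add' := fun a b => by
        rw [← map_add]
        congr 1
        simp only [f₀, map_add]
        ring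
      map_mul' := fun a b => by
        rw [← map_mul, Ideal.Quotient.eq]
        have h1 : f₀ (a * b) - f₀ a * f₀ b = -(C (δ a) * C (δ b)) * X ^ 2 := by
          simp only [f₀, Derivation.leibniz, smul_eq_mul, map_add, map_mul]
          ring
        rw [h1]
        exact Ideal.mul_mem_left _ _ hXI }
  obtain ⟨T, hT1, hT2⟩ := exists_lift (R := S) (A := O) (L := PowerSeries O) (I ^ 2)
    ((C (R := O)).comp (algebraMap S O)) f (fun s => by
      change Ideal.Quotient.mk _ (f₀ _) = _
      simp [f₀])
  have key : ∀ a, (X : PowerSeries O) ^ 2 ∣ T a - f₀ a := by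
    intro a
    have h1 : T a - f₀ a ∈ I ^ 2 := by
      rw [← Ideal.Quotient.eq]
      exact hT2 a
    rwa [Ideal.span_singleton_pow, Ideal.mem_span_singleton] at h1
  refine ⟨T, fun a => ?_, hT1, fun a => ?_⟩
  · have h1 := X_pow_dvd_iff.1 (key a) 0 (by norm_num)
    rw [map_sub, sub_eq_zero, coeff_zero_eq_constantCoeff_apply, coeff_zero_eq_constantCoeff_apply] at h1
    rw [h1]
    simp [f₀]
  · have h1 := X_pow_dvd_iff.1 (key a) 1 (by norm_num)
    rw [map_sub, sub_eq_zero] at h1
    rw [h1]
    simp only [f₀, map_add, coeff_C, if_neg one_ne_zero, zero_add]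
    rw [← pow_one (X : PowerSeries O), coeff_mul_X_pow', if_pos le_rfl, Nat.sub_self,
      coeff_zero_eq_constantCoeff_apply, constantCoeff_C]

end smooth

section node

open Groth.Agent.Models.NodeRing

variable {D : Type u} [CommRing D] {c : D} {O₂ : Type u} [CommRing O₂] [Algebra (W D c) O₂]

/-- the flow of the multiplicative group on an algebra étale over the node -/
theorem exists_flow_node [Algebra.FormallySmooth (W D c) O₂] :
    ∃ T : O₂ →+* PowerSeries O₂, (∀ a, constantCoeff (T a) = a) ∧
      (∀ d : D, T (algebraMap (W D c) O₂ (algebraMap D (W D c) d)) =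
        C (algebraMap (W D c) O₂ (algebraMap D (W D c) d))) ∧
      coeff 1 (T (algebraMap (W D c) O₂ (uu D c))) = algebraMap (W D c) O₂ (uu D c) ∧
      coeff 1 (T (algebraMap (W D c) O₂ (vv D c))) = - algebraMap (W D c) O₂ (vv D c) := by
  let I : Ideal (PowerSeries O₂) := Ideal.span {(X : PowerSeries O₂)}
  have hI : IsAdicComplete I (PowerSeries O₂) := inferInstance
  let α : W D c →+* O₂ := algebraMap (W D c) O₂
  have h1 : (PowerSeries.mk (1 : ℕ → O₂)) * (1 - X) = 1 := PowerSeries.mk_one_mul_one_sub_eq_one O₂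
  let φ : W D c →+* PowerSeries O₂ :=
    lift ((C (R := O₂)).comp (α.comp (algebraMap D (W D c)))) (C (α (uu D c)) * PowerSeries.mk (1 : ℕ → O₂))
      (C (α (vv D c)) * (1 - X)) (by
        rw [mul_mul_mul_comm, h1, mul_one, ← map_mul, ← map_mul, uu_mul_vv]
        rfl)
  have hmk : ∀ p : PowerSeries O₂, Ideal.Quotient.mk I p = Ideal.Quotient.mk I (C (constantCoeff p)) := by
    intro p
    rw [Ideal.Quotient.eq, Ideal.mem_span_singleton, X_dvd_iff, map_sub, constantCoeff_C, sub_self]
  have hφ : ∀ w, constantCoeff (φ w) = α w := by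
    intro w
    have : (constantCoeff (R := O₂)).comp φ = α := by
      refine hom_ext (fun d => ?_) ?_ ?_
      · simp [φ]
      · simp only [φ, RingHom.comp_apply, lift_uu, map_mul, constantCoeff_C, constantCoeff_mk]
        simp
      · simp only [φ, RingHom.comp_apply, lift_vv, map_mul, constantCoeff_C, map_sub, map_one,
          constantCoeff_X, sub_zero, mul_one]
    exact congrArg (fun q : W D c →+* O₂ => q w) this
  obtain ⟨T, hT1, hT2⟩ := exists_lift (R := W D c) (A := O₂) (L := PowerSeries O₂) I φ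
    ((Ideal.Quotient.mk I).comp (C (R := O₂))) (fun w => by
      rw [hmk (φ w), hφ]
      rfl)
  refine ⟨T, fun a => ?_, fun d => ?_, ?_, ?_⟩
  · have h2 := hT2 a
    rw [hmk, RingHom.comp_apply, Ideal.Quotient.eq, Ideal.mem_span_singleton, X_dvd_iff, map_sub,
      constantCoeff_C, constantCoeff_C, sub_eq_zero] at h2
    exact h2
  · rw [hT1]
    simp [φ, α]
  · rw [hT1]
    simp only [φ, lift_uu, coeff_C_mul, coeff_mk]
    simp [α]
  · rw [hT1]
    simp only [φ, lift_vv, coeff_C_mul, map_sub, coeff_one, coeff_one_X]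
    simp [α]

end node

end K549.Flow

end

section

/-!
# Derivations at a node (helper549)
-/


open PowerSeries

namespace K549.Node

open Groth.Agent.Models.NodeRing

section reg

variable (D : Type u) [CommRing D] (c : D)

/-- reduction modulo `u` -/
noncomputable def modU : W D c →+* Polynomial (D ⧸ Ideal.span {c}) :=
  lift (Polynomial.C.comp (Ideal.Quotient.mk (Ideal.span {c}))) 0 Polynomial.X (by
    rw [zero_mul, RingHom.comp_apply, Ideal.Quotient.eq_zero_iff_mem.2 (Ideal.mem_span_singleton_self c), map_zero])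

theorem exists_poly (w : W D c) : ∃ (w' : W D c) (p : Polynomial D),
    w = uu D c * w' + Polynomial.aeval (vv D c) p := by
  induction w using Groth.Agent.Models.NodeRing.induction with
  | hC d => exact ⟨0, Polynomial.C d, by simp⟩
  | hadd x y hx hy =>
    obtain ⟨x', p, rfl⟩ := hx
    obtain ⟨y', q, rfl⟩ := hy
    exact ⟨x' + y', p + q, by rw [map_add]; ring⟩
  | hu x hx => exact ⟨x, 0, by rw [map_zero]; ring⟩
  | hv x hx =>
    obtain ⟨x', p, rfl⟩ := hx
    exact ⟨x' * vv D c, p * Polynomial.X, by rw [map_mul, Polynomial.aeval_X]; ring⟩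

theorem uu_dvd_of_modU {w : W D c} (h : modU D c w = 0) : uu D c ∣ w := by
  obtain ⟨w', p, rfl⟩ := exists_poly D c w
  have h1 : modU D c (Polynomial.aeval (vv D c) p) = p.map (Ideal.Quotient.mk (Ideal.span {c})) := by
    have : ((modU D c).comp (Polynomial.aeval (R := D) (vv D c)).toRingHom) =
        Polynomial.mapRingHom (Ideal.Quotient.mk (Ideal.span {c})) := by
      refine Polynomial.ringHom_ext (fun a => ?_) ?_
      · simp [modU]
      · simp [modU]
    exact congrArg (fun q : Polynomial D →+* _ => q p) this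
  have h2 : modU D c (uu D c) = 0 := by simp [modU]
  rw [map_add, map_mul, h2, zero_mul, zero_add, h1] at h
  have h3 : ∀ n, p.coeff n ∈ Ideal.span {c} := by
    intro n
    have := congrArg (fun q => Polynomial.coeff q n) h
    rw [Polynomial.coeff_map, Polynomial.coeff_zero] at this
    exact Ideal.Quotient.eq_zero_iff_mem.1 this
  refine dvd_add (dvd_mul_right _ _) ?_
  rw [Polynomial.aeval_eq_sum_range]
  refine Finset.dvd_sum fun n _ => ?_
  obtain ⟨b, hb⟩ := Ideal.mem_span_singleton'.1 (h3 n)
  rw [← hb, Algebra.smul_def, map_mul, ← uu_mul_vv]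
  exact ⟨algebraMap D (W D c) b * vv D c * vv D c ^ n, by ring⟩

theorem uu_dvd {w : W D c} (h : uu D c ∣ vv D c * w) : uu D c ∣ w := by
  apply uu_dvd_of_modU
  obtain ⟨b, hb⟩ := h
  have h1 := congrArg (modU D c) hb
  have h2 : modU D c (uu D c) = 0 := by simp [modU]
  have h3 : modU D c (vv D c) = Polynomial.X := by simp [modU]
  rw [map_mul, map_mul, h2, h3, zero_mul] at h1
  have h4 : modU D c w = 0 := by
    ext n
    have := congrArg (fun q => Polynomial.coeff q (n + 1)) h1
    simpa using this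
  exact h4

theorem vv_dvd {w : W D c} (h : vv D c ∣ uu D c * w) : vv D c ∣ w := by
  have h1 : uu D c ∣ vv D c * swap D c w := by
    have := map_dvd (swap D c) h
    rwa [map_mul, swap_vv, swap_uu] at this
  have h2 := map_dvd (swap D c) (uu_dvd D c h1)
  rw [swap_uu] at h2
  have h3 : swap D c (swap D c w) = w := (swap D c).symm_apply_apply w
  rwa [h3] at h2

end reg

section flat

/-- `a` is a nonzerodivisor modulo `b` -/
def Reg2 {A : Type u} [CommRing A] (a b : A) : Prop := ∀ y, b ∣ a * y → b ∣ y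

theorem Reg2.of_flat {A B : Type u} [CommRing A] [CommRing B] [Algebra A B] [Module.Flat A B] {a b : A}
    (h : Reg2 a b) : Reg2 (algebraMap A B a) (algebraMap A B b) := by
  -- multiplication by `a` on `A/b` is injective
  have h1 : Function.Injective (LinearMap.lsmul A (A ⧸ Ideal.span {b}) a) := by
    rw [injective_iff_map_eq_zero]
    intro x hx
    obtain ⟨y, rfl⟩ := Ideal.Quotient.mk_surjective x
    rw [LinearMap.lsmul_apply] at hx
    change Ideal.Quotient.mk _ (a * y) = 0 at hx
    rw [Ideal.Quotient.eq_zero_iff_mem, Ideal.mem_span_singleton] at hx ⊢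
    exact h y hx
  have h2 := Module.Flat.lTensor_preserves_injective_linearMap (M := B) _ h1
  intro y hy
  let e : TensorProduct A B (A ⧸ Ideal.span {b}) →ₗ[A] B ⧸ Ideal.span {algebraMap A B b} :=
    TensorProduct.lift (LinearMap.mk₂ A (fun (t : B) (q : A ⧸ Ideal.span {b}) =>
      (Ideal.Quotient.mk (Ideal.span {algebraMap A B b}) t) *
        (Ideal.quotientMap (Ideal.span {algebraMap A B b}) (algebraMap A B)
          (by rw [Ideal.span_singleton_le_iff_mem, Ideal.mem_comap]; exact Ideal.mem_span_singleton_self _)) q)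
      (fun t t' q => by rw [map_add, add_mul]) (fun r t q => by
        rw [Algebra.smul_def, map_mul, Algebra.smul_def, mul_assoc]; rfl)
      (fun t q q' => by rw [map_add, mul_add]) (fun r t q => by
        obtain ⟨q, rfl⟩ := Ideal.Quotient.mk_surjective q
        change _ * (Ideal.quotientMap _ (algebraMap A B) _) (Ideal.Quotient.mk _ (r * q)) = _
        rw [Ideal.quotientMap_mk, map_mul, map_mul, Algebra.smul_def, Ideal.quotientMap_mk]
        change _ = Ideal.Quotient.mk _ (algebraMap A B r) * _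
        ring))
  obtain ⟨t, ht⟩ := hy
  have h3 : (y : B) ⊗ₜ[A] (Ideal.Quotient.mk (Ideal.span {b}) 1) = 0 := by
    apply h2
    rw [map_zero, LinearMap.lTensor_tmul, LinearMap.lsmul_apply]
    change y ⊗ₜ[A] (a • (1 : A ⧸ Ideal.span {b})) = 0
    rw [← TensorProduct.smul_tmul, Algebra.smul_def, ht, ← Algebra.smul_def, TensorProduct.smul_tmul]
    have : (b • (1 : A ⧸ Ideal.span {b})) = 0 := by
      change Ideal.Quotient.mk _ (b * 1) = 0
      rw [mul_one, Ideal.Quotient.eq_zero_iff_mem]
      exact Ideal.mem_span_singleton_self b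
    rw [this, TensorProduct.tmul_zero]
  have h4 := congrArg e h3
  rw [map_zero] at h4
  simp only [e, TensorProduct.lift.tmul, LinearMap.mk₂_apply] at h4
  rw [Ideal.quotientMap_mk, map_one, map_one, mul_one, Ideal.Quotient.eq_zero_iff_mem,
    Ideal.mem_span_singleton] at h4
  exact h4

end flat

end K549.Node

end

section

/-!
# Every derivation is a multiple of the flow at a node (helper549)
-/


open PowerSeries

namespace K549.NodeW

open Groth.Agent.Models.NodeRing K549.Node

/-- first coefficient of a flow as a derivation -/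
noncomputable def der {O₂ : Type u} [CommRing O₂] (T : O₂ →+* PowerSeries O₂)
    (hT : ∀ a, constantCoeff (T a) = a) : Derivation ℤ O₂ O₂ where
  toFun a := coeff 1 (T a)
  map_add' a b := by rw [map_add, map_add]
  map_smul' n a := by
    simp only [zsmul_eq_mul, eq_intCast, Int.cast_id]
    rw [← zsmul_eq_mul, map_zsmul, map_zsmul, zsmul_eq_mul]
  map_one_eq_zero' := by
    change coeff 1 (T 1) = 0
    rw [map_one, coeff_one, if_neg one_ne_zero]
  leibniz' a b := by
    change coeff 1 (T (a * b)) = a * coeff 1 (T b) + b * coeff 1 (T a)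
    rw [map_mul, coeff_one_mul, hT, hT]
    ring

theorem der_apply {O₂ : Type u} [CommRing O₂] (T : O₂ →+* PowerSeries O₂)
    (hT : ∀ a, constantCoeff (T a) = a) (a : O₂) : der T hT a = coeff 1 (T a) := rfl

/-- extension of a derivation along a formally étale map -/
theorem exists_ext {S O O₂ : Type u} [CommRing S] [CommRing O] [CommRing O₂] [Algebra S O] [Algebra O O₂]
    [Algebra S O₂] [IsScalarTower S O O₂] [Algebra.FormallyEtale O O₂] (δ : Derivation S O O) :
    ∃ δ₂ : Derivation S O₂ O₂, ∀ a : O, δ₂ (algebraMap O O₂ a) = algebraMap O O₂ (δ a) := by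
  let l : KaehlerDifferential S O →ₗ[O] O₂ := (Algebra.linearMap O O₂).comp δ.liftKaehlerDifferential
  let l' : KaehlerDifferential S O₂ →ₗ[O₂] O₂ :=
    (LinearMap.liftBaseChange O₂ l).comp
      (KaehlerDifferential.tensorKaehlerEquivOfFormallyEtale S O O₂).symm.toLinearMap
  refine ⟨l'.compDer (KaehlerDifferential.D S O₂), fun a => ?_⟩
  change LinearMap.liftBaseChange O₂ l ((KaehlerDifferential.tensorKaehlerEquivOfFormallyEtale S O O₂).symm
    (KaehlerDifferential.D S O₂ (algebraMap O O₂ a))) = _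
  rw [KaehlerDifferential.tensorKaehlerEquivOfFormallyEtale_symm_D_algebraMap,
    LinearMap.liftBaseChange_tmul, one_smul]
  change algebraMap O O₂ (δ.liftKaehlerDifferential (KaehlerDifferential.D S O a)) = _
  rw [Derivation.liftKaehlerDifferential_comp_D]

theorem derivation_eq_zero {S A M : Type u} [CommRing S] [CommRing A] [Algebra S A] [AddCommGroup M] [Module A M]
    [Module S M] [IsScalarTower S A M] [Algebra.FormallyUnramified S A] (d : Derivation S A M) (a : A) : d a = 0 := by
  rw [← d.liftKaehlerDifferential_comp_D a,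
    Subsingleton.elim (KaehlerDifferential.D S A a) 0, map_zero]

theorem exists_w {S D O O₂ : Type u} [CommRing S] [CommRing D] [CommRing O] [CommRing O₂] (c : D)
    [Algebra S O] [Algebra S D] [Algebra O O₂] [Algebra (W D c) O₂]
    [Algebra.FormallyEtale O O₂] [Algebra.FormallyUnramified S D] [Algebra.FormallyUnramified (W D c) O₂]
    [Module.Flat (W D c) O₂] [IsDomain O₂]
    (hcomm : ∀ s : S, algebraMap O O₂ (algebraMap S O s) =
      algebraMap (W D c) O₂ (algebraMap D (W D c) (algebraMap S D s)))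
    (T : O₂ →+* PowerSeries O₂) (hT : ∀ a, constantCoeff (T a) = a)
    (hTD : ∀ d : D, T (algebraMap (W D c) O₂ (algebraMap D (W D c) d)) =
        C (algebraMap (W D c) O₂ (algebraMap D (W D c) d)))
    (hTu : coeff 1 (T (algebraMap (W D c) O₂ (uu D c))) = algebraMap (W D c) O₂ (uu D c))
    (hTv : coeff 1 (T (algebraMap (W D c) O₂ (vv D c))) = - algebraMap (W D c) O₂ (vv D c))
    (δ : Derivation S O O) :
    ∃ w : O₂, ∀ a : O, algebraMap O O₂ (δ a) = w * coeff 1 (T (algebraMap O O₂ a)) := by
  let _ : Algebra S O₂ := ((algebraMap O O₂).comp (algebraMap S O)).toAlgebra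
  have _ : IsScalarTower S O O₂ := IsScalarTower.of_algebraMap_eq fun _ => rfl
  obtain ⟨δ₂, hδ₂⟩ := exists_ext (O₂ := O₂) δ
  let α : W D c →+* O₂ := algebraMap (W D c) O₂
  let _ : Algebra D O₂ := (α.comp (algebraMap D (W D c))).toAlgebra
  have _ : IsScalarTower S D O₂ := IsScalarTower.of_algebraMap_eq fun s => hcomm s
  have h0 : ∀ d : D, δ₂ (α (algebraMap D (W D c) d)) = 0 := fun d =>
    derivation_eq_zero (δ₂.compAlgebraMap D) d
  have h1 : α (uu D c) * δ₂ (α (vv D c)) + α (vv D c) * δ₂ (α (uu D c)) = 0 := by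
    have := h0 c
    rw [← uu_mul_vv, map_mul, Derivation.leibniz] at this
    exact this
  have hreg1 : Reg2 (α (vv D c)) (α (uu D c)) := Reg2.of_flat (B := O₂) fun y hy => uu_dvd D c hy
  have hreg2 : Reg2 (α (uu D c)) (α (vv D c)) := Reg2.of_flat (B := O₂) fun y hy => vv_dvd D c hy
  obtain ⟨w, hw1, hw2⟩ : ∃ w : O₂, δ₂ (α (uu D c)) = w * α (uu D c) ∧ δ₂ (α (vv D c)) = - (w * α (vv D c)) := by
    by_cases hu : α (uu D c) = 0
    · obtain ⟨b, hb⟩ := hreg2 1 (by rw [hu, zero_mul]; exact dvd_zero _)
      refine ⟨- (b * δ₂ (α (vv D c))), ?_, ?_⟩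
      · rw [hu, map_zero, mul_zero]
      · linear_combination (δ₂ (α (vv D c))) * hb
    · obtain ⟨b, hb⟩ := hreg1 (δ₂ (α (uu D c))) ⟨- δ₂ (α (vv D c)), by linear_combination h1⟩
      refine ⟨b, by rw [hb, mul_comm], ?_⟩
      have h2 : α (uu D c) * (δ₂ (α (vv D c)) + b * α (vv D c)) = 0 := by
        rw [hb] at h1
        linear_combination h1
      have h3 := (mul_eq_zero.1 h2).resolve_left hu
      linear_combination h3
  refine ⟨w, fun a => ?_⟩
  let Δ : Derivation ℤ O₂ O₂ := δ₂.restrictScalars ℤ - w • der T hT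
  have hΔ : ∀ y, Δ y = δ₂ y - w * coeff 1 (T y) := fun y => rfl
  have hΔW : ∀ y : W D c, Δ (α y) = 0 := by
    intro y
    induction y using Groth.Agent.Models.NodeRing.induction with
    | hC d => rw [hΔ, h0, hTD, coeff_C, if_neg one_ne_zero, mul_zero, sub_zero]
    | hadd x y hx hy => rw [map_add, map_add, hx, hy, add_zero]
    | hu x hx => rw [map_mul, Derivation.leibniz, hx, smul_zero, add_zero, hΔ, hTu, hw1, sub_self, smul_zero]
    | hv x hx => rw [map_mul, Derivation.leibniz, hx, smul_zero, add_zero, hΔ, hTv, hw2, mul_neg, sub_self, smul_zero]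
  let Δ' : Derivation (W D c) O₂ O₂ :=
    { toFun := Δ
      map_add' := map_add Δ
      map_smul' := fun y x => by
        rw [Algebra.smul_def, Derivation.leibniz, hΔW, smul_zero, add_zero, RingHom.id_apply, smul_eq_mul,
          Algebra.smul_def]
      map_one_eq_zero' := Δ.map_one_eq_zero
      leibniz' := Δ.leibniz }
  have h5 : Δ (algebraMap O O₂ a) = 0 := derivation_eq_zero Δ' (algebraMap O O₂ a)
  rw [hΔ, sub_eq_zero, hδ₂] at h5
  exact h5

end K549.NodeW

end

section

/-!
# Points with flows (helper549)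
-/


open PowerSeries

namespace K549.FlowPt

open Groth.Agent.Models.NodeRing

/-- every `S`-derivation of `O` is a multiple of the first coefficient of a flow over `S`,
after a faithfully flat extension -/
def HasFlow (S O : Type u) [CommRing S] [CommRing O] [Algebra S O] : Prop :=
  ∀ δ : Derivation S O O, ∃ (O₂ : Type u) (_ : CommRing O₂) (_ : Algebra O O₂) (_ : Module.FaithfullyFlat O O₂)
    (T : O₂ →+* PowerSeries O₂) (w : O₂), (∀ a, constantCoeff (T a) = a) ∧
    (∀ s : S, T (algebraMap O O₂ (algebraMap S O s)) = C (algebraMap O O₂ (algebraMap S O s))) ∧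
    ∀ a : O, algebraMap O O₂ (δ a) = w * coeff 1 (T (algebraMap O O₂ a))

theorem hasFlow_smooth (S O : Type u) [CommRing S] [CommRing O] [Algebra S O] [Algebra.FormallySmooth S O] :
    HasFlow S O := by
  intro δ
  obtain ⟨T, h1, h2, h3⟩ := Flow.exists_flow δ
  exact ⟨O, inferInstance, inferInstance, inferInstance, T, 1, h1, h2, fun a => by
    rw [one_mul]
    exact (h3 a).symm⟩

theorem hasFlow_node_aux {R A K D A₂ : Type u} [CommRing R] [CommRing A] [Field K] [Algebra R A] [Algebra A K]
    [CommRing D] [CommRing A₂] (ρ : A →+* A₂) (ι : R →+* D) (c : D) (κ : W D c →+* A₂) (χ : A₂ →+* K)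
    (hρ : ρ.Etale) (hι : ι.Etale) (hκ : κ.Etale)
    (hcomm : ∀ r : R, ρ (algebraMap R A r) = κ (algebraMap D (W D c) (ι r)))
    (hχ : χ.comp ρ = algebraMap A K)
    (S O : Type u) [CommRing S] [CommRing O] [Algebra S O] [Algebra R S] [Algebra A O]
    (Q : Ideal A) [Q.IsPrime] (hQ : Q = RingHom.ker (algebraMap A K))
    [IsLocalization.AtPrime O Q] (M : Submonoid R) [IsLocalization M S]
    (hcomm' : ∀ r : R, algebraMap S O (algebraMap R S r) = algebraMap A O (algebraMap R A r))
    (hreg : IsRegularLocalRing O) (Q₂ : Ideal A₂) [Q₂.IsPrime] (hQ₂ : Q₂ = RingHom.ker χ)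
    (O₂ : Type u) [CommRing O₂] [Algebra A₂ O₂] [IsLocalization.AtPrime O₂ Q₂] : HasFlow S O := by
  intro δ
  have hcomap : Q₂.comap ρ = Q := by
    ext a
    rw [Ideal.mem_comap, hQ₂, hQ, RingHom.mem_ker, RingHom.mem_ker, ← hχ, RingHom.comp_apply]
  let _ : Algebra A A₂ := ρ.toAlgebra
  have hAA₂ : Algebra.Etale A A₂ := hρ
  let _ : Algebra A O₂ := ((algebraMap A₂ O₂).comp ρ).toAlgebra
  have : IsScalarTower A A₂ O₂ := IsScalarTower.of_algebraMap_eq fun _ => rfl
  have hu : ∀ y : Q.primeCompl, IsUnit (algebraMap A O₂ (y : A)) := by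
    intro y
    refine IsLocalization.map_units O₂ (⟨ρ y, ?_⟩ : Q₂.primeCompl)
    intro h
    apply y.2
    have h' : (y : A) ∈ Q₂.comap ρ := h
    rw [hcomap] at h'
    exact h'
  let _ : Algebra O O₂ := (IsLocalization.lift (M := Q.primeCompl) hu : O →+* O₂).toAlgebra
  have hOO₂ : ∀ a : A, algebraMap O O₂ (algebraMap A O a) = algebraMap A₂ O₂ (ρ a) := fun a =>
    IsLocalization.lift_eq hu a
  have : IsScalarTower A O O₂ := IsScalarTower.of_algebraMap_eq fun a => (hOO₂ a).symm
  have h1 : Algebra.FormallyEtale A₂ O₂ := Algebra.FormallyEtale.of_isLocalization Q₂.primeCompl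
  have h2 : Algebra.FormallyEtale A O₂ := Algebra.FormallyEtale.comp A A₂ O₂
  have h3 : Algebra.FormallyEtale A O := Algebra.FormallyEtale.of_isLocalization Q.primeCompl
  have h4 : Algebra.FormallyEtale O O₂ := Algebra.FormallyEtale.of_restrictScalars (R := A)
  have h5 : Module.Flat A A₂ := inferInstance
  have h6 : Module.Flat A₂ O₂ := IsLocalization.flat O₂ Q₂.primeCompl
  have h7 : Module.Flat A O₂ := Module.Flat.trans A A₂ O₂
  have h8 : Module.Flat O O₂ := (Module.flat_iff_of_isLocalization O Q.primeCompl O₂).2 h7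
  have hloc : IsLocalRing O := IsLocalization.AtPrime.isLocalRing O Q
  have hloc₂ : IsLocalRing O₂ := IsLocalization.AtPrime.isLocalRing O₂ Q₂
  have h9 : IsLocalHom (algebraMap O O₂) := by
    refine ⟨fun y hy => ?_⟩
    obtain ⟨⟨a, t⟩, hat⟩ := IsLocalization.surj (M := Q.primeCompl) y
    have h10 : IsUnit (algebraMap O O₂ (algebraMap A O a)) := by
      rw [← hat, map_mul]
      exact hy.mul ((IsLocalization.map_units O t).map _)
    rw [hOO₂] at h10
    have h11 : ρ a ∉ Q₂ := (IsLocalization.AtPrime.isUnit_to_map_iff O₂ Q₂ (ρ a)).1 h10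
    have h12 : a ∉ Q := fun ha => h11 (by rw [← hcomap] at ha; exact ha)
    have h13 : IsUnit (algebraMap A O a) := IsLocalization.map_units O (⟨a, h12⟩ : Q.primeCompl)
    rw [← hat] at h13
    exact isUnit_of_mul_isUnit_left h13
  have h10 : Module.FaithfullyFlat O O₂ := Module.FaithfullyFlat.of_flat_of_isLocalHom
  -- the other side
  let _ : Algebra R D := ι.toAlgebra
  have hRD : Algebra.Etale R D := hι
  let _ : Algebra (W D c) A₂ := κ.toAlgebra
  have hWA₂ : Algebra.Etale (W D c) A₂ := hκ
  let _ : Algebra (W D c) O₂ := ((algebraMap A₂ O₂).comp κ).toAlgebra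
  have : IsScalarTower (W D c) A₂ O₂ := IsScalarTower.of_algebraMap_eq fun _ => rfl
  have h11 : Algebra.FormallyEtale (W D c) O₂ := Algebra.FormallyEtale.comp (W D c) A₂ O₂
  have h12 : Module.Flat (W D c) O₂ := Module.Flat.trans (W D c) A₂ O₂
  have h13 : IsDomain O₂ := by
    have h14 : IsRegularLocalRing (Localization.AtPrime Q) := by
      let e : O ≃ₐ[A] Localization.AtPrime Q := IsLocalization.algEquiv Q.primeCompl O (Localization.AtPrime Q)
      exact IsRegularLocalRing.of_ringEquiv e.toRingEquiv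
    have h15 : Q₂.LiesOver Q := ⟨hcomap.symm⟩
    have h16 : IsRegularLocalRing (Localization.AtPrime Q₂) :=
      (K69.EtaleLoc.isRegularLocalRing_iff A A₂ Q Q₂).1 h14
    let e : Localization.AtPrime Q₂ ≃ₐ[A₂] O₂ := IsLocalization.algEquiv Q₂.primeCompl _ O₂
    have h17 : IsRegularLocalRing O₂ := IsRegularLocalRing.of_ringEquiv e.toRingEquiv
    exact Groth.Agent.S0558.result O₂
  obtain ⟨T, hT0, hTD, hTu, hTv⟩ := Flow.exists_flow_node (D := D) (c := c) (O₂ := O₂)
  have hRc : ∀ r : R, algebraMap A₂ O₂ (ρ (algebraMap R A r)) =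
      algebraMap (W D c) O₂ (algebraMap D (W D c) (algebraMap R D r)) := fun r =>
    congrArg (algebraMap A₂ O₂) (hcomm r)
  have hTR : ∀ r : R, T (algebraMap A₂ O₂ (ρ (algebraMap R A r))) = C (algebraMap A₂ O₂ (ρ (algebraMap R A r))) := by
    intro r
    rw [hRc, hTD]
  let _ : Algebra R O := ((algebraMap A O).comp (algebraMap R A)).toAlgebra
  have : IsScalarTower R S O := IsScalarTower.of_algebraMap_eq fun r => (hcomm' r).symm
  obtain ⟨w, hw⟩ := NodeW.exists_w (S := R) (D := D) (O := O) (O₂ := O₂) c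
    (fun s => by rw [← hRc]; exact hOO₂ _) T hT0 hTD hTu hTv (δ.restrictScalars R)
  refine ⟨O₂, inferInstance, inferInstance, h10, T, w, hT0, ?_, hw⟩
  -- constancy on `S`
  have h14 : T.comp ((algebraMap O O₂).comp (algebraMap S O)) =
      (C (R := O₂)).comp ((algebraMap O O₂).comp (algebraMap S O)) := by
    apply IsLocalization.ringHom_ext M
    ext r : 1
    simp only [RingHom.comp_apply]
    rw [hcomm', hOO₂]
    exact hTR r
  exact fun s => congr($h14 s)

theorem hasFlow_node {R A K D A₂ : Type u} [CommRing R] [CommRing A] [Field K] [Algebra R A] [Algebra A K]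
    [CommRing D] [CommRing A₂] (ρ : A →+* A₂) (ι : R →+* D) (c : D) (κ : W D c →+* A₂) (χ : A₂ →+* K)
    (hρ : ρ.Etale) (hι : ι.Etale) (hκ : κ.Etale)
    (hcomm : ∀ r : R, ρ (algebraMap R A r) = κ (algebraMap D (W D c) (ι r)))
    (hχ : χ.comp ρ = algebraMap A K)
    (S O : Type u) [CommRing S] [CommRing O] [Algebra S O] [Algebra R S] [Algebra A O]
    (Q : Ideal A) [Q.IsPrime] (hQ : Q = RingHom.ker (algebraMap A K))
    [IsLocalization.AtPrime O Q] (M : Submonoid R) [IsLocalization M S]
    (hcomm' : ∀ r : R, algebraMap S O (algebraMap R S r) = algebraMap A O (algebraMap R A r))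
    (hreg : IsRegularLocalRing O) : HasFlow S O := by
  have hQ₂' : (RingHom.ker χ).IsPrime := RingHom.ker_isPrime _
  exact hasFlow_node_aux ρ ι c κ χ hρ hι hκ hcomm hχ S O Q hQ M hcomm' hreg (RingHom.ker χ) rfl
    (Localization.AtPrime (RingHom.ker χ))

end K549.FlowPt

end

section

/-!
# Flows at the points of a nodal family (helper549)
-/


open CategoryTheory AlgebraicGeometry PowerSeries

namespace K549.FlowSch

open K549.FlowPt Groth.Agent.Models.NodeRing

/-- flows along a ring homomorphism -/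
def HasFlowHom {S O : Type u} [CommRing S] [CommRing O] (φ : S →+* O) : Prop := @HasFlow S O _ _ φ.toAlgebra

theorem HasFlowHom.of_equiv {S O S' O' : Type u} [CommRing S] [CommRing O] [CommRing S'] [CommRing O']
    {φ : S →+* O} {φ' : S' →+* O'} (eS : S ≃+* S') (eO : O ≃+* O') (h : ∀ s, eO (φ s) = φ' (eS s))
    (H : HasFlowHom φ') : HasFlowHom φ := by
  let _ : Algebra S O := φ.toAlgebra
  let _ : Algebra S' O' := φ'.toAlgebra
  change HasFlow S' O' at H
  change HasFlow S O
  intro δ
  have hz : ∀ s : S', eO (δ (eO.symm (algebraMap S' O' s))) = 0 := by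
    intro s
    obtain ⟨s, rfl⟩ := eS.surjective s
    have h1 : eO.symm (algebraMap S' O' (eS s)) = algebraMap S O s := by
      rw [RingEquiv.symm_apply_eq]
      exact (h s).symm
    rw [h1, Derivation.map_algebraMap, map_zero]
  let δ' : Derivation S' O' O' := Derivation.mk'
    { toFun := fun a => eO (δ (eO.symm a))
      map_add' := fun a b => by rw [map_add, map_add, map_add]
      map_smul' := fun s a => by
        rw [Algebra.smul_def, map_mul, Derivation.leibniz, map_add, smul_eq_mul, smul_eq_mul, map_mul, map_mul, hz,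
          mul_zero, add_zero, RingEquiv.apply_symm_apply, RingHom.id_apply, Algebra.smul_def] }
    (fun a b => by
      change eO (δ (eO.symm (a * b))) = _
      rw [map_mul, Derivation.leibniz, map_add, smul_eq_mul, smul_eq_mul, map_mul, map_mul,
        RingEquiv.apply_symm_apply, RingEquiv.apply_symm_apply]
      rfl)
  obtain ⟨O₂, _, _, hff, T, w, hT0, hTS, hw⟩ := H δ'
  let _ : Algebra O O₂ := ((algebraMap O' O₂).comp eO.toRingHom).toAlgebra
  let _ : Algebra O O' := eO.toRingHom.toAlgebra
  have : IsScalarTower O O' O₂ := IsScalarTower.of_algebraMap_eq fun _ => rfl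
  have h1 : Module.FaithfullyFlat O O' := Module.FaithfullyFlat.of_linearEquiv O O
    (LinearEquiv.ofBijective (Algebra.linearMap O O') eO.bijective).symm
  have h2 : Module.FaithfullyFlat O O₂ := Module.FaithfullyFlat.trans O O' O₂
  refine ⟨O₂, inferInstance, inferInstance, h2, T, w, hT0, fun s => ?_, fun a => ?_⟩
  · have h3 : algebraMap O O₂ (algebraMap S O s) = algebraMap O' O₂ (algebraMap S' O' (eS s)) :=
      congrArg (algebraMap O' O₂) (h s)
    rw [h3]
    exact hTS _
  · have h3 := hw (eO a)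
    have h4 : δ' (eO a) = eO (δ a) := by
      change eO (δ (eO.symm (eO a))) = _
      rw [RingEquiv.symm_apply_apply]
    rw [h4] at h3
    exact h3

/-- flows at the nodes -/
theorem hasFlow_isNode {X S : Scheme.{u}} (f : X ⟶ S) [Flat f] [LocallyOfFinitePresentation f] (x : X)
    (hx : @Curv2.IsNode (S.residueField (f x)) _ (f.fiber (f x)) ⟨f.fiberToSpecResidueField (f x)⟩ (f.asFiber x))
    (hreg : IsRegularLocalRing (X.presheaf.stalk x)) : HasFlowHom (f.stalkMap x).hom := by
  obtain ⟨R, A, _, _, _, jS, jX, _, _, hcomm, _, _, K, _, _, _, _, _, hxK, φ, hN⟩ :=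
    Groth.Agent.CurvesC.NodeScheme.exists_affine_node f x hx
  obtain ⟨D, A₂, _, _, ρ, ι, c, κ, χ, hρ, hι, hκ, hc, hχ⟩ := Groth.Agent.CurvesC.NodeFinal.exists_model φ hN
  clear hx
  set q : Spec (CommRingCat.of A) := ⟨RingHom.ker (algebraMap A K), RingHom.ker_isPrime _⟩ with hq
  subst hxK
  have hqp : q.asIdeal.IsPrime := RingHom.ker_isPrime _
  let φ₀ : CommRingCat.of R ⟶ CommRingCat.of A := CommRingCat.ofHom (algebraMap R A)
  let q' : Spec (CommRingCat.of R) := PrimeSpectrum.comap φ₀.hom q
  let eO : X.presheaf.stalk (jX q) ≅ CommRingCat.of (Localization.AtPrime q.asIdeal) :=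
    asIso (jX.stalkMap q) ≪≫ Spec.stalkIso (CommRingCat.of A) q
  have heq : f (jX q) = jS q' := by
    have := congrArg (fun t : Spec (CommRingCat.of A) ⟶ S => t q) hcomm
    exact this
  let eS : S.presheaf.stalk (f (jX q)) ≅ CommRingCat.of (Localization.AtPrime q'.asIdeal) :=
    S.presheaf.stalkCongr (.of_eq heq) ≪≫ asIso (jS.stalkMap q') ≪≫ Spec.stalkIso (CommRingCat.of R) q'
  have hsq : f.stalkMap (jX q) ≫ eO.hom = eS.hom ≫
      (CommRingCat.ofHom (Localization.localRingHom q'.asIdeal q.asIdeal φ₀.hom rfl)) := by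
    have h1 := Scheme.Hom.stalkMap_congr_hom _ _ hcomm q
    rw [Scheme.Hom.stalkMap_comp, Scheme.Hom.stalkMap_comp, ← Scheme.localRingHom_comp_stalkIso] at h1
    have h2 : f.stalkMap (jX q) ≫ jX.stalkMap q = (eS.hom ≫
        (CommRingCat.ofHom (Localization.localRingHom q'.asIdeal q.asIdeal φ₀.hom rfl))) ≫
        (Spec.stalkIso (CommRingCat.of A) q).inv := by
      refine h1.trans ?_
      simp only [eS, Iso.trans_hom, asIso_hom, Category.assoc]
      rfl
    simp only [eO, Iso.trans_hom, asIso_hom]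
    rw [← Category.assoc, h2, Category.assoc, Iso.inv_hom_id, Category.comp_id]
  refine HasFlowHom.of_equiv (φ' := Localization.localRingHom q'.asIdeal q.asIdeal φ₀.hom rfl)
    eS.commRingCatIsoToRingEquiv eO.commRingCatIsoToRingEquiv (fun s => congr($hsq s)) ?_
  let _ : Algebra (Localization.AtPrime q'.asIdeal) (Localization.AtPrime q.asIdeal) :=
    (Localization.localRingHom q'.asIdeal q.asIdeal φ₀.hom rfl).toAlgebra
  refine hasFlow_node (K := K) ρ ι c κ χ hρ hι hκ (fun r => ?_) hχ _ _ q.asIdeal rfl q'.asIdeal.primeCompl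
    (fun r => ?_) ?_
  · exact congr($hc r)
  · exact Localization.localRingHom_to_map _ _ _ rfl r
  · exact IsRegularLocalRing.of_ringEquiv eO.commRingCatIsoToRingEquiv

theorem hasFlow_smoothLocus {X S : Scheme.{u}} (f : X ⟶ S) [LocallyOfFinitePresentation f] (x : X)
    (hx : x ∈ f.smoothLocus) : HasFlowHom (f.stalkMap x).hom := by
  let _ : Algebra (S.presheaf.stalk (f x)) (X.presheaf.stalk x) := (f.stalkMap x).hom.toAlgebra
  have h : Algebra.FormallySmooth (S.presheaf.stalk (f x)) (X.presheaf.stalk x) :=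
    Scheme.Hom.mem_smoothLocus.1 hx
  exact hasFlow_smooth _ _

open Groth.Agent.CurvesB.NodalPoint in
theorem mem_smoothLocus_of_sm {X S : Scheme.{u}} (f : X ⟶ S) [LocallyOfFinitePresentation f] (x : X)
    (hx : Sm f x) : x ∈ f.smoothLocus := by
  obtain ⟨V, hV, h⟩ := hx
  have h1 : Smooth (V.ι ≫ f) := SmoothOfRelativeDimension.smooth 1 (V.ι ≫ f)
  have h2 := Scheme.Hom.smoothLocus_eq_top (V.ι ≫ f)
  rw [← Scheme.Hom.preimage_smoothLocus_eq] at h2
  have h3 : (⟨x, hV⟩ : V) ∈ V.ι ⁻¹ᵁ f.smoothLocus := by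
    rw [h2]
    trivial
  exact h3

/-- flows at all points of a nodal family with regular total space -/
theorem hasFlow {X S : Scheme.{u}} (f : X ⟶ S) (hf : Curv2.IsNodalFamily f)
    (hreg : ∀ x : X, IsRegularLocalRing (X.presheaf.stalk x)) (x : X) : HasFlowHom (f.stalkMap x).hom := by
  have := hf.1
  have := hf.2.1
  rcases Groth.Agent.CurvesB.NodalPoint.pt_of_isNodalFamily f hf x with h | h
  · exact hasFlow_smoothLocus f x (mem_smoothLocus_of_sm f x h)
  · exact hasFlow_isNode f x h (hreg x)

end K549.FlowSch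

end
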