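import Groth.Agent.Surf.K464.Curves
import Groth.Agent.CycB.DegCurve
import Groth.Agent.CycB.SetupLft
import Groth.Agent.CycB.RelDim3
import Groth.Agent.CycB.GysinFib
import Groth.Agent.CycB.SetupDVR
import Groth.Agent.Surf.K549.StarA
import Groth.Agent.Surf.K549.StarB
import Groth.Agent.CycB.LocQuot
import Groth.Agent.CurvesB.NodalPoint
import Groth.Agent.CurvesB.SubEuler2
import Groth.Agent.CurvesB.OmegaGeneric
import Groth.Agent.CycB.DegIntegral
import Groth.Agent.Dix.IdealModSec

set_option autoImplicit false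
set_option linter.style.haveILetI false
universe u v w

section

/-!
# Comparing degrees on a curve through rational sections (helper549)
-/


open CategoryTheory CategoryTheory.Limits AlgebraicGeometry TopologicalSpace Opposite
open Groth.Agent Groth.Agent.CycB Groth.Agent.CycB.ModStalk Groth.Agent.CycB.C1Basic Cyc
open K464.Base K464.Curves Groth.Agent.Grpsch.PicGrp

namespace K549.StarNum

theorem ordFrac_nonneg (R : Type u) [CommRing R] (K : Type u) [Field K] [Algebra R K] (a : R) :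
    0 ≤ CycAlg.ordFrac R K (algebraMap R K a) := by
  by_cases h : IsNoetherianRing R ∧ Ring.KrullDimLE 1 R ∧ Nontrivial R ∧ IsFractionRing R K
  · have := h.1; have := h.2.1; have := h.2.2.1; have := h.2.2.2
    by_cases ha : a = 0
    · rw [ha, map_zero, ordFrac_zero]
    · rw [ordFrac_algebraMap R K ha]
      exact Int.natCast_nonneg _
  · unfold CycAlg.ordFrac
    rw [dif_neg h]

theorem ordAt_specMap_nonneg {X : Scheme.{u}} {x ξ : X} (h : ξ ⤳ x) (a : X.presheaf.stalk x) :
    0 ≤ ordAt x ξ h (specMap x ξ h a) := by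
  rw [← algebraMap_locQuot_mk]
  exact ordFrac_nonneg _ _ _

theorem ordAt_pow {X : Scheme.{u}} {x ξ : X} (h : ξ ⤳ x) {f : X.residueField ξ} (hf : f ≠ 0) (n : ℕ) :
    ordAt x ξ h (f ^ n) = n * ordAt x ξ h f := by
  induction n with
  | zero => rw [pow_zero, ordAt_one, Nat.cast_zero, zero_mul]
  | succ n ih =>
    rw [pow_succ, ordAt_mul h (pow_ne_zero n hf) hf, ih]
    push_cast
    ring

variable (k : Type u) [Field k] (X : Scheme.{u}) [X.Over (Spec (CommRingCat.of k))]
  [IsProper (X ↘ Spec (CommRingCat.of k))]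

/-- the degree of an invertible module on a curve through a rational section -/
theorem degOn_eq_finsum {D : X.IdealSheafData} (hD : IsCurve D) {L : X.Modules} (hL : PicF.IsInvertible L)
    (s : secFibre L (gp hD)) (hs : s ≠ 0) (δ : X → ℤ)
    (hδ : DeltaCompat (X ↘ Spec (CommRingCat.of k)) δ (fun _ => 0)) :
    degOn k X D (mk L hL) = ∑ᶠ x : X, ((X ↘ Spec (CommRingCat.of k)).residueDegree x : ℤ) *
      secDivFun δ L (gp hD) s x := by
  have := hD.integral
  letI := overC k X D
  have := isProper_sub k X D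
  rw [degOn_eq_deg]
  have hδ' : DeltaCompat (D.subscheme ↘ Spec (CommRingCat.of k)) (fun z => δ (D.subschemeι z)) (fun _ => 0) :=
    RelDim.deltaCompat_comp (GysinFib.deltaCompat_closedImmersion D.subschemeι δ) hδ
  rw [DegCurve.deg_eq k D.subscheme ((dim_sub X D).trans hD.dim) _ hδ' _
    (C1Pull.isInvertible_pullback D.subschemeι hL) (C1Pull.fib D.subschemeι L (genericPoint D.subscheme) s)
    (C1Pull.fib_ne_zero D.subschemeι hL hs)]
  exact DegReduce.finsum_residueDegree_fib (X ↘ Spec (CommRingCat.of k)) D.subschemeι hL δ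
    (genericPoint D.subscheme) hs

/-- comparison of degrees through the orders of rational sections -/
theorem degOn_le {D : X.IdealSheafData} (hD : IsCurve D) {L₁ L₂ : X.Modules} (h₁ : PicF.IsInvertible L₁)
    (h₂ : PicF.IsInvertible L₂) (s₁ : secFibre L₁ (gp hD)) (hs₁ : s₁ ≠ 0) (s₂ : secFibre L₂ (gp hD)) (hs₂ : s₂ ≠ 0)
    (m : ℕ) (H : ∀ (x : X) (h : gp hD ⤳ x), secOrdAt L₁ (gp hD) x h s₁ ≤ m * secOrdAt L₂ (gp hD) x h s₂) :
    degOn k X D (mk L₁ h₁) ≤ m * degOn k X D (mk L₂ h₂) := by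
  have : IsLocallyNoetherian X := LocallyOfFiniteType.isLocallyNoetherian (X ↘ Spec (CommRingCat.of k))
  have : CompactSpace X := QuasiCompact.compactSpace_of_compactSpace (X ↘ Spec (CommRingCat.of k))
  obtain ⟨δ, hδ⟩ := SetupLft.exists_deltaCompat (X ↘ Spec (CommRingCat.of k)) (fun _ => 0)
  have hset := SetupLft.isSetup_of_deltaCompat (X ↘ Spec (CommRingCat.of k)) (SetupDVR.isSetup_spec_field k) hδ
  have hfin : ∀ {L : X.Modules} (hL : PicF.IsInvertible L) (s : secFibre L (gp hD)) (hs : s ≠ 0),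
      (Function.support (secDivFun δ L (gp hD) s)).Finite := fun hL s hs =>
    DegReduce.finite_support_secDivFun hL δ hset.2.2 (gp hD) hs
  rw [degOn_eq_finsum k X hD h₁ s₁ hs₁ δ hδ, degOn_eq_finsum k X hD h₂ s₂ hs₂ δ hδ, mul_finsum]
  · refine finsum_le_finsum' ?_ ?_ fun x => ?_
    · exact (hfin h₁ s₁ hs₁).subset fun x hx => right_ne_zero_of_mul hx
    · exact (hfin h₂ s₂ hs₂).subset fun x hx => right_ne_zero_of_mul (right_ne_zero_of_mul hx)
    · simp only [secDivFun]
      split_ifs with h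
      · have h3 : (0 : ℤ) ≤ ((X ↘ Spec (CommRingCat.of k)).residueDegree x : ℤ) := Int.natCast_nonneg _
        calc ((X ↘ Spec (CommRingCat.of k)).residueDegree x : ℤ) * secOrdAt L₁ (gp hD) x h.1 s₁
            ≤ ((X ↘ Spec (CommRingCat.of k)).residueDegree x : ℤ) * (m * secOrdAt L₂ (gp hD) x h.1 s₂) :=
              mul_le_mul_of_nonneg_left (H x h.1) h3
          _ = m * (((X ↘ Spec (CommRingCat.of k)).residueDegree x : ℤ) * secOrdAt L₂ (gp hD) x h.1 s₂) := by ring
      · rw [mul_zero, mul_zero]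

end K549.StarNum

end

section

/-!
# The local inequality along a horizontal curve (helper549)
-/


open CategoryTheory CategoryTheory.Limits AlgebraicGeometry TopologicalSpace Opposite TensorProduct PowerSeries
open Groth.Agent Groth.Agent.CycB Groth.Agent.CycB.ModStalk Groth.Agent.CycB.C1Basic Cyc

namespace K549.StarLoc

/-- relative derivations of the structure sheaf into a module, on stalks -/
structure RelDer {X C : Scheme.{u}} (f : X ⟶ C) (E : X.Modules) where
  /-- the derivation on stalks -/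
  th : ∀ x : X, X.presheaf.stalk x →+ E.presheaf.stalk x
  leib : ∀ (x : X) (a b : X.presheaf.stalk x), th x (a * b) = a • th x b + b • th x a
  base : ∀ (x : X) (s : C.presheaf.stalk (f x)), th x (f.stalkMap x s) = 0
  spec : ∀ {x ξ : X} (h : ξ ⤳ x) (a : X.presheaf.stalk x),
    E.presheaf.stalkSpecializes h (th x a) = th ξ (X.presheaf.stalkSpecializes h a)

/-- a map of a module to the structure sheaf, on stalks -/
structure LocFun {X : Scheme.{u}} (L : X.Modules) where
  /-- the map on stalks -/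
  j : ∀ x : X, L.presheaf.stalk x →ₗ[X.presheaf.stalk x] X.presheaf.stalk x
  spec : ∀ {x ξ : X} (h : ξ ⤳ x) (t : L.presheaf.stalk x),
    j ξ (L.presheaf.stalkSpecializes h t) = X.presheaf.stalkSpecializes h (j x t)

section

variable {X C : Scheme.{u}} (f : X ⟶ C) (ξ : X)

/-- algebra structures at the generic point of a curve -/
noncomputable abbrev algKF : Algebra (C.presheaf.stalk (f ξ)) (X.presheaf.stalk ξ) := (f.stalkMap ξ).hom.toAlgebra

/-- algebra structures at the generic point of a curve -/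
noncomputable abbrev algKK : Algebra (C.presheaf.stalk (f ξ)) (X.residueField ξ) :=
  ((X.residue ξ).hom.comp (f.stalkMap ξ).hom).toAlgebra

/-- algebra structures at the generic point of a curve -/
noncomputable abbrev algFK : Algebra (X.presheaf.stalk ξ) (X.residueField ξ) := (X.residue ξ).hom.toAlgebra

theorem tower :
    letI := algKF f ξ
    letI := algKK f ξ
    letI := algFK ξ
    IsScalarTower (C.presheaf.stalk (f ξ)) (X.presheaf.stalk ξ) (X.residueField ξ) := by
  letI := algKF f ξ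
  letI := algKK f ξ
  letI := algFK ξ
  exact IsScalarTower.of_algebraMap_eq fun _ => rfl

/-- the leading coefficient of `g` along the curve is `r • (dz)^m` -/
def Lead (z g : X.presheaf.stalk ξ) (m : ℕ) (r : X.residueField ξ) : Prop :=
  letI := algKF f ξ
  letI := algKK f ξ
  letI := algFK ξ
  haveI := tower f ξ
  (1 : X.residueField ξ) ⊗ₜ[C.presheaf.stalk (f ξ)] g ∈
      RingHom.ker (LocInt.ev (C.presheaf.stalk (f ξ)) (X.presheaf.stalk ξ) (X.residueField ξ)) ^ m ∧
    (1 : X.residueField ξ) ⊗ₜ[C.presheaf.stalk (f ξ)] g -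
      algebraMap (X.residueField ξ) ((X.residueField ξ) ⊗[C.presheaf.stalk (f ξ)] (X.presheaf.stalk ξ)) r *
        (LocInt.tau (C.presheaf.stalk (f ξ)) (X.residueField ξ) z) ^ m ∈
      RingHom.ker (LocInt.ev (C.presheaf.stalk (f ξ)) (X.presheaf.stalk ξ) (X.residueField ξ)) ^ (m + 1)

end

section

variable {X C : Scheme.{u}} {f : X ⟶ C} {E L : X.Modules}

/-- the local inequality -/
theorem local_ineq (hE : PicF.IsInvertible E) (θ : RelDer f E) (hL : PicF.IsInvertible L) (J : LocFun L) {ξ x : X}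
    (h : ξ ⤳ x) (hflow : FlowSch.HasFlowHom (f.stalkMap x).hom) (z : X.presheaf.stalk ξ)
    (g₀ : L.presheaf.stalk ξ) (hg₀ : IsGen L ξ g₀) (hz : IsGen E ξ (θ.th ξ z)) (m : ℕ) (r : X.residueField ξ)
    (hlead : Lead f ξ z (J.j ξ g₀) m r) (ρ : X.presheaf.stalk ξ) (hρ : X.residue ξ ρ * r = 1) :
    secOrdAt L ξ x h (ρ • cl L ξ g₀) ≤ m * secOrdAt E ξ x h (cl E ξ (θ.th ξ z)) := by
  letI i1 := algKF f ξ
  letI i2 := algKK f ξ
  letI i3 := algFK ξ
  haveI i4 := tower f ξ
  letI i5 : Algebra (C.presheaf.stalk (f x)) (C.presheaf.stalk (f ξ)) :=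
    (C.presheaf.stalkSpecializes (h.map f.continuous)).hom.toAlgebra
  letI i6 : Algebra (C.presheaf.stalk (f x)) (X.presheaf.stalk x) := (f.stalkMap x).hom.toAlgebra
  letI i7 : Algebra (X.presheaf.stalk x) (X.presheaf.stalk ξ) := (X.presheaf.stalkSpecializes h).hom.toAlgebra
  letI i8 : Algebra (X.presheaf.stalk x) (X.residueField ξ) := (specMap x ξ h).toAlgebra
  haveI i9 : IsScalarTower (X.presheaf.stalk x) (X.presheaf.stalk ξ) (X.residueField ξ) :=
    IsScalarTower.of_algebraMap_eq fun _ => rfl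
  haveI i10 : IsLocalization.AtPrime (X.presheaf.stalk ξ) (RingHom.ker (specMap x ξ h)) :=
    LocQuot.isLocalization_stalkSpecializes h
  -- generators
  obtain ⟨η, hη⟩ := exists_isGen hE x
  obtain ⟨t, ht⟩ := exists_isGen hL x
  have hη' := hη.stalkSpecializes hE h
  -- the derivation
  choose δ hδ using fun a : X.presheaf.stalk x => hη.2 (θ.th x a)
  simp only at hδ
  have hinj : ∀ a b : X.presheaf.stalk x, a • η = b • η → a = b := fun a b hab => hη.1 hab
  have hadd : ∀ a b, δ (a + b) = δ a + δ b := fun a b => hinj _ _ (by rw [hδ, map_add, add_smul, hδ, hδ])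
  have hmul : ∀ a b, δ (a * b) = a * δ b + b * δ a := fun a b => hinj _ _ (by
    rw [hδ, θ.leib, add_smul, mul_smul, mul_smul, hδ, hδ])
  have hbase : ∀ s : C.presheaf.stalk (f x), δ (algebraMap _ _ s) = 0 := fun s => hinj _ _ (by
    rw [hδ, zero_smul]
    exact θ.base x s)
  let Δ : Derivation (C.presheaf.stalk (f x)) (X.presheaf.stalk x) (X.presheaf.stalk x) := Derivation.mk'
    { toFun := δ
      map_add' := hadd
      map_smul' := fun s a => by
        rw [Algebra.smul_def, hmul, hbase, mul_zero, add_zero, RingHom.id_apply, Algebra.smul_def] } hmul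
  obtain ⟨O₂, _, _, hff, T, w, hT0, hTS, hw⟩ := hflow Δ
  -- the coordinate
  obtain ⟨⟨a, s⟩, has⟩ := IsLocalization.surj (M := (RingHom.ker (specMap x ξ h)).primeCompl) z
  obtain ⟨dz, hdz⟩ := hη'.2 (θ.th ξ z)
  simp only at hdz
  have hinj' : ∀ a b : X.presheaf.stalk ξ, a • E.presheaf.stalkSpecializes h η = b • E.presheaf.stalkSpecializes h η →
      a = b := fun a b hab => hη'.1 hab
  have hsp : ∀ y : X.presheaf.stalk x, θ.th ξ (algebraMap _ _ y) =
      algebraMap (X.presheaf.stalk x) (X.presheaf.stalk ξ) (δ y) • E.presheaf.stalkSpecializes h η := by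
    intro y
    have h1 := θ.spec h y
    rw [← hδ, stalkSpecializes_smul] at h1
    exact h1.symm
  have hquot : dz * algebraMap (X.presheaf.stalk x) (X.presheaf.stalk ξ) s ^ 2 =
      algebraMap _ _ (δ a) * algebraMap _ _ s.1 - algebraMap _ _ a * algebraMap _ _ (δ s) := by
    have h1 : z * algebraMap _ _ (δ s) + algebraMap _ _ s.1 * dz = algebraMap _ _ (δ a) := by
      apply hinj'
      rw [add_smul, mul_smul, mul_smul, hdz, ← hsp, ← hsp, ← θ.leib, has]
    rw [← h1, ← has]
    ring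
  -- the equation
  obtain ⟨h', hh'⟩ := hg₀.2 (L.presheaf.stalkSpecializes h t)
  simp only at hh'
  have hgx : algebraMap (X.presheaf.stalk x) (X.presheaf.stalk ξ) (J.j x t) = h' * J.j ξ g₀ := by
    have h1 := J.spec h t
    rw [← hh', map_smul, smul_eq_mul] at h1
    exact h1.symm
  obtain ⟨b, hb⟩ := LocInt.main (K₀ := C.presheaf.stalk (f ξ)) (F := X.presheaf.stalk ξ) (K₁ := X.residueField ξ)
    (S := C.presheaf.stalk (f x)) (O := X.presheaf.stalk x) (O₂ := O₂) (RingHom.ker (specMap x ξ h)) (fun _ => Iff.rfl)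
    (fun s => Scheme.Hom.stalkSpecializes_stalkMap_apply f ξ x h s)
    (fun y => by
      letI i11 := i5
      haveI : IsLocalization.AtPrime (C.presheaf.stalk (f ξ)) (RingHom.ker (specMap (f x) (f ξ) (h.map f.continuous))) :=
        LocQuot.isLocalization_stalkSpecializes (h.map f.continuous)
      obtain ⟨⟨c, q⟩, hcq⟩ := IsLocalization.surj
        (M := (RingHom.ker (specMap (f x) (f ξ) (h.map f.continuous))).primeCompl) y
      refine ⟨c, q, ?_, hcq⟩
      have h1 : IsUnit (algebraMap (C.presheaf.stalk (f x)) (C.presheaf.stalk (f ξ)) q) :=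
        IsLocalization.map_units _ q
      exact (h1.map _).ne_zero)
    T hT0 hTS w δ (fun a => hw a) z (J.j ξ g₀) m r hlead.1 hlead.2 (J.j x t) h' hgx dz a s s.2 has hquot
  -- orders
  have hr0 : r ≠ 0 := right_ne_zero_of_mul (hρ.symm ▸ one_ne_zero)
  have hρ0 : X.residue ξ ρ ≠ 0 := left_ne_zero_of_mul (hρ.symm ▸ one_ne_zero)
  have hh0 : X.residue ξ h' ≠ 0 := by
    obtain ⟨v, hv⟩ := hg₀.exists_unit_smul (ht.stalkSpecializes hL h)
    have h1 : h' = v := hg₀.1 (hh'.trans hv)
    rw [h1]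
    exact (v.isUnit.map (X.residue ξ).hom).ne_zero
  have hd0 : X.residue ξ dz ≠ 0 := by
    obtain ⟨v, hv⟩ := hη'.exists_unit_smul hz
    have h1 : dz = v := hη'.1 (hdz.trans hv)
    rw [h1]
    exact (v.isUnit.map (X.residue ξ).hom).ne_zero
  have e1 : secOrdAt E ξ x h (cl E ξ (θ.th ξ z)) = ordAt x ξ h (X.residue ξ dz) := by
    rw [← hdz, map_smul]
    exact secOrdAt_smul hE h hη dz hd0
  obtain ⟨h'', hh''⟩ := (ht.stalkSpecializes hL h).2 g₀
  simp only at hh''
  have hprod : h'' * h' = 1 := by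
    apply hg₀.1
    simp only
    rw [mul_smul, hh', hh'', one_smul]
  have hprod' : X.residue ξ h'' * X.residue ξ h' = 1 := by rw [← map_mul, hprod, map_one]
  have hh0' : X.residue ξ h'' ≠ 0 := left_ne_zero_of_mul (hprod'.symm ▸ one_ne_zero)
  have e2 : secOrdAt L ξ x h (ρ • cl L ξ g₀) = ordAt x ξ h (X.residue ξ ρ) + ordAt x ξ h (X.residue ξ h'') := by
    rw [← hh'', map_smul, ← mul_smul, secOrdAt_smul hL h ht _ (by rw [map_mul]; exact mul_ne_zero hρ0 hh0'),
      map_mul, ordAt_mul h hρ0 hh0']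
  have e3 : ordAt x ξ h (X.residue ξ h'') + ordAt x ξ h (X.residue ξ h') = 0 := by
    rw [← ordAt_mul h hh0' hh0, hprod', ordAt_one]
  have e4 : ordAt x ξ h (X.residue ξ ρ) + ordAt x ξ h r = 0 := by
    rw [← ordAt_mul h hρ0 hr0, hρ, ordAt_one]
  have e5 : 0 ≤ ordAt x ξ h (X.residue ξ h') + ordAt x ξ h r + m * ordAt x ξ h (X.residue ξ dz) := by
    rw [← StarNum.ordAt_pow h hd0, ← ordAt_mul h hh0 hr0, ← ordAt_mul h (mul_ne_zero hh0 hr0) (pow_ne_zero m hd0)]
    have := StarNum.ordAt_specMap_nonneg h b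
    rwa [show specMap x ξ h b = _ from hb] at this
  rw [e1, e2]
  linarith

end

end K549.StarLoc

end

section

/-!
# The generic point of a horizontal curve (helper549)
-/


open CategoryTheory CategoryTheory.Limits AlgebraicGeometry TopologicalSpace Opposite TensorProduct
open Groth.Agent Groth.Agent.CycB Groth.Agent.CycB.ModStalk Groth.Agent.CycB.C1Basic Cyc

namespace K549.StarGen

/-- differentials generated by one element localize -/
theorem exists_gen {A B K₀ F : Type u} [CommRing A] [CommRing B] [CommRing K₀] [CommRing F] (α : A →+* B)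
    (β : B →+* F) (κ : A →+* K₀) [Algebra K₀ F] (hcomm : ∀ a, β (α a) = algebraMap K₀ F (κ a))
    (hB : letI := α.toAlgebra; ∃ ω : Ω[B⁄A], ∀ v : Ω[B⁄A], ∃ c : B, c • ω = v)
    (hsurj : ∀ y : F, ∃ b s : B, IsUnit (β s) ∧ y * β s = β b) :
    ∃ ω : Ω[F⁄K₀], Submodule.span F {ω} = ⊤ := by
  letI i1 : Algebra A B := α.toAlgebra
  letI i2 : Algebra B F := β.toAlgebra
  letI i3 : Algebra A K₀ := κ.toAlgebra
  letI i4 : Algebra A F := (β.comp α).toAlgebra
  haveI : IsScalarTower A B F := IsScalarTower.of_algebraMap_eq fun _ => rfl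
  haveI : IsScalarTower A K₀ F := IsScalarTower.of_algebraMap_eq fun a => hcomm a
  obtain ⟨ω₀, hω₀⟩ := hB
  let φ : Ω[B⁄A] →ₗ[B] Ω[F⁄K₀] := KaehlerDifferential.map A K₀ B F
  refine ⟨φ ω₀, ?_⟩
  have h1 : ∀ b : B, KaehlerDifferential.D K₀ F (β b) ∈ Submodule.span F {φ ω₀} := by
    intro b
    have h2 : φ (KaehlerDifferential.D A B b) = KaehlerDifferential.D K₀ F (β b) :=
      KaehlerDifferential.map_D A K₀ B F b
    obtain ⟨c, hc⟩ := hω₀ (KaehlerDifferential.D A B b)
    rw [← h2, ← hc, map_smul, ← algebraMap_smul F]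
    exact Submodule.smul_mem _ _ (Submodule.mem_span_singleton_self _)
  rw [eq_top_iff, ← KaehlerDifferential.span_range_derivation, Submodule.span_le]
  rintro _ ⟨y, rfl⟩
  obtain ⟨b, s, hs, hy⟩ := hsurj y
  have h2 : KaehlerDifferential.D K₀ F (y * β s) ∈ Submodule.span F {φ ω₀} := by
    rw [hy]
    exact h1 b
  rw [Derivation.leibniz] at h2
  have h3 := Submodule.sub_mem _ h2 (Submodule.smul_mem _ y (h1 s))
  rw [add_sub_cancel_left] at h3
  obtain ⟨v, hv⟩ := hs
  rw [← hv] at h3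
  have h4 := Submodule.smul_mem _ (↑v⁻¹ : F) h3
  rwa [smul_smul, Units.inv_mul, one_smul] at h4

theorem germ_appLE {X Y : Scheme.{u}} (f : X ⟶ Y) {U : Y.Opens} {W : X.Opens} (e : W ≤ f ⁻¹ᵁ U) (x : X) (hx : x ∈ W) :
    Y.presheaf.germ U (f x) (e hx) ≫ f.stalkMap x = f.appLE U W e ≫ X.presheaf.germ W x hx := by
  rw [Scheme.Hom.germ_stalkMap, Scheme.Hom.appLE, Category.assoc, X.presheaf.germ_res']

/-- the differentials at a point smooth of relative dimension one are generated by one element -/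
theorem exists_gen_kaehler {X C : Scheme.{u}} (f : X ⟶ C) (x : X) (h : CurvesB.NodalPoint.Sm f x) :
    letI := StarLoc.algKF f x
    ∃ ω : Ω[(X.presheaf.stalk x)⁄(C.presheaf.stalk (f x))], Submodule.span (X.presheaf.stalk x) {ω} = ⊤ := by
  obtain ⟨V, hV, hsm⟩ := h
  obtain ⟨x', rfl⟩ : ∃ x' : V.toScheme, V.ι x' = x := ⟨⟨x, hV⟩, rfl⟩
  letI := StarLoc.algKF f (V.ι x')
  obtain ⟨U, hU, W, hW, hxW, e, hst⟩ :=
    SmoothOfRelativeDimension.exists_isStandardSmoothOfRelativeDimension (n := 1) (f := V.ι ≫ f) x'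
  have hxU : f (V.ι x') ∈ U := e hxW
  let eI : X.presheaf.stalk (V.ι x') ≅ V.toScheme.presheaf.stalk x' := asIso (V.ι.stalkMap x')
  letI := ((V.ι ≫ f).appLE U W e).hom.toAlgebra
  have hst' : Algebra.IsStandardSmoothOfRelativeDimension 1 Γ(C, U) Γ(V.toScheme, W) := hst
  have hst'' : Algebra.IsStandardSmooth Γ(C, U) Γ(V.toScheme, W) :=
    Algebra.IsStandardSmoothOfRelativeDimension.isStandardSmooth 1
  have hne : Nonempty W := ⟨⟨x', hxW⟩⟩
  have hnt : Nontrivial Γ(V.toScheme, W) := inferInstance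
  have hrk := Algebra.IsStandardSmoothOfRelativeDimension.rank_kaehlerDifferential
    (R := Γ(C, U)) (S := Γ(V.toScheme, W)) 1
  have hfr : Module.finrank Γ(V.toScheme, W) (Ω[Γ(V.toScheme, W)⁄Γ(C, U)]) = 1 :=
    Module.finrank_eq_of_rank_eq hrk
  let b : Module.Basis Unit Γ(V.toScheme, W) (Ω[Γ(V.toScheme, W)⁄Γ(C, U)]) := Module.basisUnique Unit hfr
  refine exists_gen ((V.ι ≫ f).appLE U W e).hom (eI.inv.hom.comp (V.toScheme.presheaf.germ W x' hxW).hom)
    (C.presheaf.germ U (f (V.ι x')) hxU).hom ?_ ⟨b default, fun v => ⟨b.repr v default, ?_⟩⟩ ?_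
  · intro a
    have h1 : f.stalkMap (V.ι x') ≫ V.ι.stalkMap x' = (V.ι ≫ f).stalkMap x' := (Scheme.Hom.stalkMap_comp V.ι f x').symm
    have h2 : C.presheaf.germ U ((V.ι ≫ f) x') hxU ≫ (V.ι ≫ f).stalkMap x' =
        (V.ι ≫ f).appLE U W e ≫ V.toScheme.presheaf.germ W x' hxW := by
      exact germ_appLE (V.ι ≫ f) e x' hxW
    have h3 : (V.ι ≫ f).appLE U W e ≫ V.toScheme.presheaf.germ W x' hxW ≫ eI.inv =
        C.presheaf.germ U (f (V.ι x')) hxU ≫ f.stalkMap (V.ι x') := by
      rw [← Category.assoc, Iso.comp_inv_eq, Category.assoc]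
      exact (congrArg (C.presheaf.germ U (f (V.ι x')) hxU ≫ ·) h1 |>.trans h2).symm
    exact congr($h3 a)
  · have h1 := b.sum_repr v
    rw [Fintype.sum_unique] at h1
    exact h1
  · intro y
    have hloc : letI := (V.toScheme.presheaf.germ W x' hxW).hom.toAlgebra
        IsLocalization.AtPrime (V.toScheme.presheaf.stalk x') (hW.primeIdealOf ⟨x', hxW⟩).asIdeal :=
      hW.isLocalization_stalk ⟨x', hxW⟩
    letI := (V.toScheme.presheaf.germ W x' hxW).hom.toAlgebra
    obtain ⟨⟨c, s⟩, hcs⟩ := IsLocalization.surj (M := (hW.primeIdealOf ⟨x', hxW⟩).asIdeal.primeCompl) (eI.hom y)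
    refine ⟨c, s, ?_, ?_⟩
    · have h1 : IsUnit (algebraMap Γ(V.toScheme, W) (V.toScheme.presheaf.stalk x') s) :=
        IsLocalization.map_units _ s
      exact h1.map eI.inv.hom
    · have h1 := congrArg eI.inv hcs
      rw [map_mul] at h1
      have h2 : eI.inv (eI.hom y) = y := by
        rw [← CategoryTheory.comp_apply, Iso.hom_inv_id]
        rfl
      rw [h2] at h1
      exact h1

end K549.StarGen

end

section

/-!
# `D² + m (ω·D) ≥ 0` for horizontal curves on a nodal fibration (helper549)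
-/


open CategoryTheory CategoryTheory.Limits AlgebraicGeometry TopologicalSpace Opposite TensorProduct
open Groth.Agent Groth.Agent.CycB Groth.Agent.CycB.ModStalk Groth.Agent.CycB.C1Basic Cyc
open K464.Base K464.Curves Groth.Agent.Grpsch.PicGrp

namespace K549.Star

open StarLoc

section gen

variable {X C : Scheme.{u}} {f : X ⟶ C} {E : X.Modules}

theorem exists_isGen_th (hE : PicF.IsInvertible E) (θ : RelDer f E) (ξ : X)
    (hgen : Submodule.span (X.presheaf.stalk ξ) (Set.range (θ.th ξ)) = ⊤) :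
    ∃ z : X.presheaf.stalk ξ, IsGen E ξ (θ.th ξ z) := by
  obtain ⟨η, hη⟩ := exists_isGen hE ξ
  by_contra hcon
  push Not at hcon
  have h1 : Submodule.span (X.presheaf.stalk ξ) (Set.range (θ.th ξ)) ≤
      IsLocalRing.maximalIdeal (X.presheaf.stalk ξ) • (⊤ : Submodule (X.presheaf.stalk ξ) (E.presheaf.stalk ξ)) := by
    rw [Submodule.span_le]
    rintro _ ⟨z, rfl⟩
    obtain ⟨a, ha⟩ := hη.2 (θ.th ξ z)
    simp only at ha
    rw [SetLike.mem_coe, ← ha]
    refine Submodule.smul_mem_smul ?_ trivial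
    rw [IsLocalRing.mem_maximalIdeal, mem_nonunits_iff]
    intro hu
    apply hcon z
    rw [← ha]
    obtain ⟨v, hv⟩ := hu
    rw [← hv]
    exact hη.unit_smul v.isUnit
  rw [hgen, top_le_iff] at h1
  have h2 : cl E ξ η = 0 := by
    rw [cl, Submodule.mkQ_apply, Submodule.Quotient.mk_eq_zero, h1]
    trivial
  exact cl_ne_zero hη h2

theorem span_D_eq_top (θ : RelDer f E) (ξ : X) {z : X.presheaf.stalk ξ}
    (hz : IsGen E ξ (θ.th ξ z)) (hsm : CurvesB.NodalPoint.Sm f ξ) :
    letI := algKF f ξ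
    Submodule.span (X.presheaf.stalk ξ)
      {KaehlerDifferential.D (C.presheaf.stalk (f ξ)) (X.presheaf.stalk ξ) z} = ⊤ := by
  letI := algKF f ξ
  obtain ⟨ω, hω⟩ := StarGen.exists_gen_kaehler f ξ hsm
  choose c hc using fun a : X.presheaf.stalk ξ => hz.2 (θ.th ξ a)
  simp only at hc
  have hinj : ∀ a b : X.presheaf.stalk ξ, a • θ.th ξ z = b • θ.th ξ z → a = b := fun a b hab => hz.1 hab
  have hmul : ∀ a b, c (a * b) = a * c b + b * c a := fun a b => hinj _ _ (by
    rw [hc, θ.leib, add_smul, mul_smul, mul_smul, hc, hc])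
  let Δ : Derivation (C.presheaf.stalk (f ξ)) (X.presheaf.stalk ξ) (X.presheaf.stalk ξ) := Derivation.mk'
    { toFun := c
      map_add' := fun a b => hinj _ _ (by rw [hc, map_add, add_smul, hc, hc])
      map_smul' := fun s a => by
        have hbase : c (algebraMap _ _ s) = 0 := hinj _ _ (by
          rw [hc, zero_smul]
          exact θ.base ξ s)
        rw [Algebra.smul_def, hmul, hbase, mul_zero, add_zero, RingHom.id_apply, Algebra.smul_def] } hmul
  have h1 : c z = 1 := hinj _ _ (by rw [hc, one_smul])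
  have h2 : KaehlerDifferential.D (C.presheaf.stalk (f ξ)) (X.presheaf.stalk ξ) z ∈
      Submodule.span (X.presheaf.stalk ξ) {ω} := by rw [hω]; trivial
  obtain ⟨a, ha⟩ := Submodule.mem_span_singleton.1 h2
  have h3 : a * Δ.liftKaehlerDifferential ω = 1 := by
    rw [← smul_eq_mul, ← map_smul, ha, Derivation.liftKaehlerDifferential_comp_D]
    exact h1
  rw [eq_top_iff, ← hω, Submodule.span_le, Set.singleton_subset_iff, SetLike.mem_coe, Submodule.mem_span_singleton]
  refine ⟨Δ.liftKaehlerDifferential ω, ?_⟩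
  rw [← ha, smul_smul, mul_comm, h3, one_smul]

theorem isNoetherianRing_tensor {K₀ F K₁ : Type u} [CommRing K₀] [CommRing F] [Field K₁] [Algebra K₀ F] [Algebra K₀ K₁]
    [Algebra F K₁] [IsScalarTower K₀ F K₁] [IsNoetherianRing F] [Algebra.EssFiniteType K₀ F]
    (hs : Function.Surjective (algebraMap F K₁)) : IsNoetherianRing (K₁ ⊗[K₀] F) := by
  have h1 : Algebra.EssFiniteType K₀ K₁ := Algebra.EssFiniteType.of_surjective (IsScalarTower.toAlgHom K₀ F K₁) hs
  have h2 : Algebra.EssFiniteType F (F ⊗[K₀] K₁) := inferInstance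
  have h3 : IsNoetherianRing (F ⊗[K₀] K₁) := Algebra.EssFiniteType.isNoetherianRing F _
  exact isNoetherianRing_of_ringEquiv _ (Algebra.TensorProduct.comm K₀ F K₁).toRingEquiv

theorem flat_of_isField {K₀ M : Type u} [CommRing K₀] (h : IsField K₀) [AddCommGroup M] [Module K₀ M] :
    Module.Flat K₀ M := by
  let _ : Field K₀ := h.toField
  infer_instance

theorem exists_lead [LocallyOfFiniteType f] [IsIntegral X] [IsLocallyNoetherian X] (ξ : X)
    (hK : IsField (C.presheaf.stalk (f ξ))) {z g : X.presheaf.stalk ξ} (hg : g ≠ 0) (hg0 : X.residue ξ g = 0)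
    (hz : letI := algKF f ξ
      Submodule.span (X.presheaf.stalk ξ)
      {KaehlerDifferential.D (C.presheaf.stalk (f ξ)) (X.presheaf.stalk ξ) z} = ⊤) :
    ∃ (m : ℕ) (r : X.residueField ξ), 1 ≤ m ∧ r ≠ 0 ∧ Lead f ξ z g m r := by
  letI i1 := algKF f ξ
  letI i2 := algKK f ξ
  letI i3 := algFK ξ
  haveI i4 := tower f ξ
  have h1 : Module.Flat (C.presheaf.stalk (f ξ)) (X.residueField ξ) := flat_of_isField hK
  have h2 : Algebra.EssFiniteType (C.presheaf.stalk (f ξ)) (X.presheaf.stalk ξ) := LocallyOfFiniteType.stalkMap f ξ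
  have h3 := isNoetherianRing_tensor (K₀ := C.presheaf.stalk (f ξ)) (F := X.presheaf.stalk ξ)
    (K₁ := X.residueField ξ) (X.residue_surjective ξ)
  exact Gen.exists_lead hz (mem_nonZeroDivisors_of_ne_zero hg) hg0

end gen

section ideal

variable {X : Scheme.{u}} (D : X.IdealSheafData)

/-- functions attached to the ideal of a curve -/
noncomputable def idealFun : LocFun (ClSub.idealMod D) where
  j x := (Fdesc.StructMod.stalkEquiv x).symm.toLinearMap ∘ₗ StalkExact.stalkLin (ClSub.idealModι D) x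
  spec := fun {x ξ} h t => by
    change (Fdesc.StructMod.stalkEquiv ξ).symm (StalkExact.stalkLin (ClSub.idealModι D) ξ _) = _
    rw [DegIntegral.stalkLin_stalkSpecializes, LinearEquiv.symm_apply_eq,
      ← CurvesB.OmegaGeneric.stalkSpecializes_stalkEquiv]
    congr 1
    exact ((Fdesc.StructMod.stalkEquiv x).apply_symm_apply _).symm

theorem idealFun_injective (x : X) : Function.Injective ((idealFun D).j x) := by
  intro a b hab
  exact StalkExact.stalkLin_injective (ClSub.idealModι D) x ((Fdesc.StructMod.stalkEquiv x).symm.injective hab)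

theorem idealFun_mem (x : X) (t : (ClSub.idealMod D).presheaf.stalk x) :
    (idealFun D).j x t ∈ IntMult.stalkIdeal D x := by
  obtain ⟨U, hU, t, rfl⟩ := TopCat.Presheaf.exists_germ_eq _ t
  have h1 : (idealFun D).j x ((ClSub.idealMod D).presheaf.germ U x hU t) =
      X.presheaf.germ U x hU (CurvesB.SubEuler2.fn D t) := by
    change (Fdesc.StructMod.stalkEquiv x).symm (StalkExact.stalkLin (ClSub.idealModι D) x _) = _
    rw [StalkExact.stalkLin_germ, LinearEquiv.symm_apply_eq, Fdesc.StructMod.stalkEquiv_germ]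
    rfl
  rw [h1]
  exact CurvesB.SubEuler2.germ_idealModι_mem D hU t

end ideal

/-- (STAR), general form -/
theorem star_aux (k : Type u) [Field k] (X : Scheme.{u}) [X.Over (Spec (CommRingCat.of k))]
    [IsProper (X ↘ Spec (CommRingCat.of k))] [IsIntegral X] (hreg : ∀ x : X, IsRegularLocalRing (X.presheaf.stalk x))
    {C : Scheme.{u}} (f : X ⟶ C) (hss : Curv2.IsNodalFamily f) {E : X.Modules} (hE : PicF.IsInvertible E)
    (θ : RelDer f E) {D : X.IdealSheafData} (hD : IsCurve D) (hDe : BlowUp.IsEffCartierIdeal D)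
    (hK : IsField (C.presheaf.stalk (f (gp hD)))) (hsm : CurvesB.NodalPoint.Sm f (gp hD))
    (hgen : Submodule.span (X.presheaf.stalk (gp hD)) (Set.range (θ.th (gp hD))) = ⊤) :
    ∃ m : ℕ, 1 ≤ m ∧ degOn k X D (ic D hDe) ≤ m * degOn k X D (mk E hE) := by
  have : IsLocallyNoetherian X := LocallyOfFiniteType.isLocallyNoetherian (X ↘ Spec (CommRingCat.of k))
  have := hss.2.1
  have hL := Groth.Agent.Dix.IdealModCartier.isInvertible_idealMod hDe
  obtain ⟨z, hz⟩ := exists_isGen_th hE θ (gp hD) hgen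
  obtain ⟨g₀, hg₀⟩ := exists_isGen hL (gp hD)
  have hg : (idealFun D).j (gp hD) g₀ ≠ 0 := by
    intro h0
    have h1 : g₀ = 0 := idealFun_injective D (gp hD) (by rw [h0, map_zero])
    have h2 : (1 : X.presheaf.stalk (gp hD)) = 0 := hg₀.1 (by simp only; rw [h1, smul_zero, smul_zero])
    exact one_ne_zero h2
  have hg0 : X.residue (gp hD) ((idealFun D).j (gp hD) g₀) = 0 := by
    have h1 := idealFun_mem D (gp hD) g₀
    have h2 : IntMult.stalkIdeal D (gp hD) ≠ ⊤ :=
      (CycA.StalkIdeal.stalkIdeal_ne_top_iff D (gp hD)).2 (gp_mem hD)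
    exact (IsLocalRing.residue_eq_zero_iff _).2 (IsLocalRing.le_maximalIdeal h2 h1)
  obtain ⟨m, r, hm, hr, hlead⟩ := exists_lead (f := f) (gp hD) hK hg hg0 (span_D_eq_top θ (gp hD) hz hsm)
  obtain ⟨ρ, hρ⟩ := X.residue_surjective (gp hD) r⁻¹
  have hρ' : X.residue (gp hD) ρ * r = 1 := by rw [hρ, inv_mul_cancel₀ hr]
  refine ⟨m, hm, ?_⟩
  have hs₁ : ρ • cl (ClSub.idealMod D) (gp hD) g₀ ≠ 0 := by
    rw [ne_eq, smul_cl_eq_zero_iff hg₀]
    exact left_ne_zero_of_mul (hρ'.symm ▸ one_ne_zero)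
  exact StarNum.degOn_le k X hD hL hE _ hs₁ _ (cl_ne_zero hz) m fun x h =>
    local_ineq hE θ hL (idealFun D) h (FlowSch.hasFlow f hss hreg x) z g₀ hg₀ hz m r hlead ρ hρ'

end K549.Star

end
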